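import Mathlib

/-!
# Finite-dimensional algebras with one simple module and few trace functionals

If `A` is a finite-dimensional algebra with a surjection onto `M_n(F)` with nilpotent kernel and at most
two independent trace functionals, then `dim A = n² · (number of independent trace functionals)`.
-/

set_option autoImplicit false
set_option linter.unusedSectionVars false
set_option linter.unusedVariables false

namespace Cfsg.Agent.Lib.LocalAlg

open Finset Module

universe u v

variable (F : Type u) (A : Type v) [Field F] [Ring A] [Algebra F A]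

/-- The linear functionals vanishing on commutators. -/
def traceFun : Submodule F (Module.Dual F A) where
  carrier := {f | ∀ a b, f (a * b) = f (b * a)}
  add_mem' := fun {f g} hf hg a b => by
    simp only [LinearMap.add_apply]
    rw [hf a b, hg a b]
  zero_mem' := fun a b => rfl
  smul_mem' := fun c f hf a b => by
    simp only [LinearMap.smul_apply]
    rw [hf a b]

variable {F A}

theorem mem_traceFun {f : Module.Dual F A} : f ∈ traceFun F A ↔ ∀ a b, f (a * b) = f (b * a) := Iff.rfl

/-- The corner of an idempotent as a submodule. -/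
def corner (ε : A) (hε : IsIdempotentElem ε) : Submodule F A where
  carrier := {a | ε * a = a ∧ a * ε = a}
  add_mem' := fun {a b} ha hb => ⟨by rw [mul_add, ha.1, hb.1], by rw [add_mul, ha.2, hb.2]⟩
  zero_mem' := ⟨mul_zero _, zero_mul _⟩
  smul_mem' := fun c a ha => ⟨by rw [mul_smul_comm, ha.1], by rw [smul_mul_assoc, ha.2]⟩

theorem mem_corner {ε : A} {hε : IsIdempotentElem ε} {a : A} :
    a ∈ corner (F := F) ε hε ↔ ε * a = a ∧ a * ε = a := Iff.rfl

theorem sandwich_mem_corner {ε : A} (hε : IsIdempotentElem ε) (a : A) : ε * a * ε ∈ corner (F := F) ε hε :=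
  ⟨by rw [← mul_assoc, ← mul_assoc, hε.eq], by rw [mul_assoc, hε.eq]⟩

theorem mul_mem_corner {ε : A} {hε : IsIdempotentElem ε} {a b : A} (ha : a ∈ corner (F := F) ε hε)
    (hb : b ∈ corner (F := F) ε hε) : a * b ∈ corner (F := F) ε hε :=
  ⟨by rw [← mul_assoc, ha.1], by rw [mul_assoc, hb.2]⟩

section Main

variable [FiniteDimensional F A] {n : ℕ} [NeZero n] (π : A →ₐ[F] Matrix (Fin n) (Fin n) F)

theorem isNilpotent_of_mem_ker (hπ : Function.Surjective π) {N : ℕ} (hN : (LinearMap.ker π.toLinearMap) ^ N = ⊥)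
    {a : A} (ha : π a = 0) : IsNilpotent a := by
  refine ⟨N, ?_⟩
  have h1 : a ^ N ∈ (LinearMap.ker π.toLinearMap) ^ N := Submodule.pow_mem_pow _ (by simpa using ha) N
  rw [hN] at h1
  simpa using h1

/-- The basic data of the corner. -/
theorem exists_corner_data (hπ : Function.Surjective π) {N : ℕ} (hN : (LinearMap.ker π.toLinearMap) ^ N = ⊥) :
    ∃ (ε : A) (x y : Fin n → A), IsIdempotentElem ε ∧ π ε = Matrix.single 0 0 (1 : F) ∧ (∀ i, π (x i) = Matrix.single i 0 (1 : F)) ∧ (∀ i, π (y i) = Matrix.single 0 i (1 : F)) ∧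
      ∑ i, x i * ε * y i = 1 := by
  classical
  obtain ⟨ε, hε, hπε⟩ := exists_isIdempotentElem_eq_of_ker_isNilpotent (π : A →+* Matrix (Fin n) (Fin n) F)
    (fun a ha => isNilpotent_of_mem_ker π hπ hN (by simpa using ha)) (Matrix.single 0 0 (1 : F)) (hπ _)
    (by
      show Matrix.single _ _ _ * Matrix.single _ _ _ = _
      simp)
  have hπε' : π ε = Matrix.single 0 0 (1 : F) := hπε
  choose x hx using fun i => hπ (Matrix.single i 0 (1 : F))
  choose y hy using fun i => hπ (Matrix.single 0 i (1 : F))
  set u := ∑ i, x i * ε * y i with hu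
  have hπu : π u = 1 := by
    rw [hu, map_sum]
    have h1 : ∀ i, π (x i * ε * y i) = Matrix.single i i (1 : F) := by
      intro i
      rw [map_mul, map_mul, hx, hπε', hy]
      simp
    simp only [h1]
    ext i j
    rw [Matrix.sum_apply, Matrix.one_apply]
    by_cases hij : i = j
    · subst hij
      simp [Matrix.single_apply]
    · rw [if_neg hij]
      refine Finset.sum_eq_zero fun k _ => ?_
      rw [Matrix.single_apply, if_neg]
      rintro ⟨rfl, rfl⟩
      exact hij rfl
  have hunit : IsUnit u := by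
    have h1 : IsNilpotent (1 - u) := isNilpotent_of_mem_ker π hπ hN (by rw [map_sub, map_one, hπu, sub_self])
    have h2 := h1.isUnit_one_sub
    simpa using h2
  obtain ⟨v, hv⟩ := hunit
  have hπv : π ((v⁻¹ : Aˣ) : A) = 1 := by
    have h1 : π ((v⁻¹ : Aˣ) : A) * π u = 1 := by
      rw [← map_mul, ← hv, Units.inv_mul, map_one]
    rwa [hπu, mul_one] at h1
  refine ⟨ε, fun i => ((v⁻¹ : Aˣ) : A) * x i, y, hε, hπε', fun i => ?_, hy, ?_⟩
  · rw [map_mul, hπv, one_mul, hx]
  · have h1 : ∀ i, ((v⁻¹ : Aˣ) : A) * x i * ε * y i = ((v⁻¹ : Aˣ) : A) * (x i * ε * y i) := fun i => by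
      simp only [mul_assoc]
    simp only [h1]
    rw [← Finset.mul_sum, ← hu, ← hv, Units.inv_mul]

variable {ε : A} {x y : Fin n → A}

/-- The transfer map into the corner. -/
noncomputable def transferMap (ε : A) (x y : Fin n → A) : A →ₗ[F] A :=
  ∑ i, (LinearMap.mulLeft F (ε * y i)).comp (LinearMap.mulRight F (x i * ε))

theorem transferMap_apply (b : A) : transferMap (F := F) ε x y b = ∑ i, ε * y i * b * (x i * ε) := by
  simp [transferMap, LinearMap.sum_apply, mul_assoc]

theorem transferMap_mem (hε : IsIdempotentElem ε) (b : A) : transferMap (F := F) ε x y b ∈ corner (F := F) ε hε := by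
  rw [transferMap_apply]
  refine Submodule.sum_mem _ fun i _ => ?_
  have h1 : ε * y i * b * (x i * ε) = ε * (y i * b * x i) * ε := by simp only [mul_assoc]
  rw [h1]
  exact sandwich_mem_corner hε _

/-- The commutator formula for the transfer map. -/
theorem transferMap_comm (hε : IsIdempotentElem ε) (h1 : ∑ i, x i * ε * y i = 1) (b c : A) :
    transferMap (F := F) ε x y (b * c) - transferMap (F := F) ε x y (c * b) =
      ∑ i, ∑ j, ((ε * y i * b * (x j * ε)) * (ε * y j * c * (x i * ε)) - (ε * y j * c * (x i * ε)) * (ε * y i * b * (x j * ε))) := by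
  rw [transferMap_apply, transferMap_apply]
  have h2 : ∀ i, ε * y i * (b * c) * (x i * ε) = ∑ j, (ε * y i * b * (x j * ε)) * (ε * y j * c * (x i * ε)) := by
    intro i
    have h3 : ε * y i * (b * c) * (x i * ε) = ε * y i * b * (∑ j, x j * ε * y j) * c * (x i * ε) := by
      rw [h1, mul_one]
      simp only [mul_assoc]
    rw [h3, Finset.mul_sum, Finset.sum_mul, Finset.sum_mul]
    refine Finset.sum_congr rfl fun j _ => ?_
    have h4 : ∀ z : A, (ε * y i * b * (x j * ε)) * (ε * z) = ε * y i * b * (x j * ε) * z := by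
      intro z
      calc (ε * y i * b * (x j * ε)) * (ε * z) = ε * y i * b * x j * (ε * ε) * z := by simp only [mul_assoc]
        _ = _ := by rw [hε.eq]; simp only [mul_assoc]
    have h5 : (ε * y j * c * (x i * ε)) = ε * (y j * c * (x i * ε)) := by simp only [mul_assoc]
    rw [h5, h4]
    simp only [mul_assoc]
  have h3 : ∀ j, ε * y j * (c * b) * (x j * ε) = ∑ i, (ε * y j * c * (x i * ε)) * (ε * y i * b * (x j * ε)) := by
    intro j
    have h3 : ε * y j * (c * b) * (x j * ε) = ε * y j * c * (∑ i, x i * ε * y i) * b * (x j * ε) := by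
      rw [h1, mul_one]
      simp only [mul_assoc]
    rw [h3, Finset.mul_sum, Finset.sum_mul, Finset.sum_mul]
    refine Finset.sum_congr rfl fun i _ => ?_
    have h4 : ∀ z : A, (ε * y j * c * (x i * ε)) * (ε * z) = ε * y j * c * (x i * ε) * z := by
      intro z
      calc (ε * y j * c * (x i * ε)) * (ε * z) = ε * y j * c * x i * (ε * ε) * z := by simp only [mul_assoc]
        _ = _ := by rw [hε.eq]; simp only [mul_assoc]
    have h5 : (ε * y i * b * (x j * ε)) = ε * (y i * b * (x j * ε)) := by simp only [mul_assoc]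
    rw [h5, h4]
    simp only [mul_assoc]
  simp only [h2, h3]
  rw [Finset.sum_comm (f := fun j i => (ε * y j * c * (x i * ε)) * (ε * y i * b * (x j * ε)))]
  rw [← Finset.sum_sub_distrib]
  refine Finset.sum_congr rfl fun i _ => ?_
  rw [← Finset.sum_sub_distrib]

/-- On the corner the transfer map is the identity modulo commutators. -/
theorem transferMap_corner (hε : IsIdempotentElem ε) (h1 : ∑ i, x i * ε * y i = 1) {a : A} (ha : a ∈ corner (F := F) ε hε) :
    transferMap (F := F) ε x y a - a =
      ∑ i, ((ε * y i * ε) * (a * (ε * x i * ε)) - (a * (ε * x i * ε)) * (ε * y i * ε)) := by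
  rw [transferMap_apply, Finset.sum_sub_distrib]
  congr 1
  · refine Finset.sum_congr rfl fun i _ => ?_
    have h2 : ε * y i * a * (x i * ε) = ε * y i * (ε * a) * (x i * ε) := by rw [ha.1]
    rw [h2]
    have h3 : a * (ε * x i * ε) = (a * ε) * x i * ε := by simp only [mul_assoc]
    rw [h3, ha.2]
    simp only [mul_assoc]
  · have h2 : ∀ i, a * (ε * x i * ε) * (ε * y i * ε) = a * (x i * ε * y i) * ε := by
      intro i
      calc a * (ε * x i * ε) * (ε * y i * ε) = (a * ε) * x i * (ε * ε) * y i * ε := by simp only [mul_assoc]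
        _ = a * (x i * ε * y i) * ε := by rw [ha.2, hε.eq]; simp only [mul_assoc]
    simp only [h2]
    rw [← Finset.sum_mul, ← Finset.mul_sum, h1, mul_one, ha.2]

/-- The quotient of the corner by a submodule containing its commutators is dual to trace functionals. -/
theorem finrank_quotient_le (hε : IsIdempotentElem ε) (h1 : ∑ i, x i * ε * y i = 1) (K : Submodule F (corner (F := F) ε hε))
    (hK : ∀ a b : corner (F := F) ε hε, (⟨(a : A) * b - b * a, Submodule.sub_mem _ (mul_mem_corner a.2 b.2) (mul_mem_corner b.2 a.2)⟩ : corner (F := F) ε hε) ∈ K) :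
    finrank F (corner (F := F) ε hε ⧸ K) ≤ finrank F (traceFun F A) := by
  classical
  let T : A →ₗ[F] corner (F := F) ε hε := (transferMap (F := F) ε x y).codRestrict _ (transferMap_mem hε)
  have hT : ∀ b, ((T b : corner (F := F) ε hε) : A) = transferMap (F := F) ε x y b := fun b => rfl
  let Φ₀ : Module.Dual F (corner (F := F) ε hε ⧸ K) →ₗ[F] Module.Dual F A :=
    { toFun := fun f => (f.comp K.mkQ).comp T
      map_add' := fun f g => rfl
      map_smul' := fun c f => rfl }
  have hsum : ∀ (ι : Type) (s : Finset ι) (u v : ι → corner (F := F) ε hε),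
      (∑ i ∈ s, (⟨(u i : A) * v i - v i * u i, Submodule.sub_mem _ (mul_mem_corner (u i).2 (v i).2) (mul_mem_corner (v i).2 (u i).2)⟩ : corner (F := F) ε hε)) ∈ K :=
    fun ι s u v => Submodule.sum_mem _ fun i _ => hK _ _
  have hΦ₀ : ∀ f, Φ₀ f ∈ traceFun F A := by
    intro f a b
    show f (K.mkQ (T (a * b))) = f (K.mkQ (T (b * a)))
    suffices h : K.mkQ (T (a * b)) = K.mkQ (T (b * a)) by rw [h]
    rw [Submodule.mkQ_apply, Submodule.mkQ_apply, Submodule.Quotient.eq]
    have h2 := transferMap_comm (F := F) hε h1 a b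
    let u : Fin n × Fin n → corner (F := F) ε hε := fun q =>
      ⟨ε * y q.1 * a * (x q.2 * ε), by
        have h3 : ε * y q.1 * a * (x q.2 * ε) = ε * (y q.1 * a * x q.2) * ε := by simp only [mul_assoc]
        rw [h3]
        exact sandwich_mem_corner hε _⟩
    let v : Fin n × Fin n → corner (F := F) ε hε := fun q =>
      ⟨ε * y q.2 * b * (x q.1 * ε), by
        have h3 : ε * y q.2 * b * (x q.1 * ε) = ε * (y q.2 * b * x q.1) * ε := by simp only [mul_assoc]
        rw [h3]
        exact sandwich_mem_corner hε _⟩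
    have h3 := hsum (Fin n × Fin n) univ u v
    convert h3 using 1
    apply Subtype.ext
    show (T (a * b) : A) - (T (b * a) : A) = _
    rw [hT, hT, h2, AddSubmonoidClass.coe_finsetSum, Fintype.sum_prod_type]
  let Φ : Module.Dual F (corner (F := F) ε hε ⧸ K) →ₗ[F] traceFun F A := Φ₀.codRestrict _ hΦ₀
  have hinj : Function.Injective Φ := by
    intro f g hfg
    apply LinearMap.ext
    intro q
    obtain ⟨a, rfl⟩ := K.mkQ_surjective q
    have h2 : (Φ f : Module.Dual F A) (a : A) = (Φ g : Module.Dual F A) (a : A) := by rw [hfg]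
    have h3 : (Φ f : Module.Dual F A) (a : A) = f (K.mkQ (T a)) := rfl
    have h3' : (Φ g : Module.Dual F A) (a : A) = g (K.mkQ (T a)) := rfl
    rw [h3, h3'] at h2
    have h4 : K.mkQ (T a) = K.mkQ a := by
      rw [Submodule.mkQ_apply, Submodule.mkQ_apply, Submodule.Quotient.eq]
      have h5 := transferMap_corner (F := F) hε h1 a.2
      let u : Fin n → corner (F := F) ε hε := fun i => ⟨ε * y i * ε, sandwich_mem_corner hε _⟩
      let v : Fin n → corner (F := F) ε hε := fun i =>
        ⟨(a : A) * (ε * x i * ε), mul_mem_corner a.2 (sandwich_mem_corner hε _)⟩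
      have h6 := hsum (Fin n) univ u v
      convert h6 using 1
      apply Subtype.ext
      show (T a : A) - (a : A) = _
      rw [hT, h5, AddSubmonoidClass.coe_finsetSum]
    rw [h4] at h2
    exact h2
  have h5 := LinearMap.finrank_le_finrank_of_injective hinj
  rwa [Subspace.dual_finrank_eq] at h5

theorem finrank_corner_le (hε : IsIdempotentElem ε) (h1 : ∑ i, x i * ε * y i = 1) (K : Submodule F A)
    (hKC : K ≤ corner (F := F) ε hε)
    (hK : ∀ a ∈ corner (F := F) ε hε, ∀ b ∈ corner (F := F) ε hε, a * b - b * a ∈ K) :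
    finrank F (corner (F := F) ε hε) ≤ finrank F K + finrank F (traceFun F A) := by
  classical
  let K' : Submodule F (corner (F := F) ε hε) := K.comap (corner (F := F) ε hε).subtype
  have h2 := finrank_quotient_le (F := F) hε h1 K' (fun a b => by
    show (a : A) * b - b * a ∈ K
    exact hK _ a.2 _ b.2)
  have h3 := Submodule.finrank_quotient_add_finrank K'
  have h4 : finrank F K' = finrank F K := (Submodule.comapSubtypeEquivOfLe hKC).finrank_eq
  omega

/-- A nilpotent algebra generated by one element modulo its square is commutative. -/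
theorem commute_of_gen (L : Submodule F A) (hLL : L * L ≤ L) {x₀ : A} (hx₀ : x₀ ∈ L)
    (h : ∀ j ∈ L, ∃ μ : F, j - μ • x₀ ∈ L * L) {N : ℕ} (hN : L ^ N = ⊥) :
    ∀ a ∈ L, ∀ b ∈ L, a * b = b * a := by
  classical
  have hmono : ∀ k, L ^ (k + 2) ≤ L ^ (k + 1) := by
    intro k
    have h1 : L ^ (k + 2) = L ^ k * (L * L) := by rw [pow_succ, pow_succ, mul_assoc]
    rw [h1, pow_succ]
    exact mul_le_mul_right hLL _
  have hmul : ∀ i j, ∀ a ∈ L ^ i, ∀ b ∈ L ^ j, a * b ∈ L ^ (i + j) := by
    intro i j a ha b hb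
    rw [pow_add]
    exact Submodule.mul_mem_mul ha hb
  have hx : ∀ i, x₀ ^ (i + 1) ∈ L ^ (i + 1) := fun i => Submodule.pow_mem_pow _ hx₀ _
  have hS : ∀ i, ∀ a ∈ L ^ (i + 1), ∃ μ : F, a - μ • x₀ ^ (i + 1) ∈ L ^ (i + 2) := by
    intro i
    induction i with
    | zero =>
      intro a ha
      rw [zero_add, pow_one] at ha ⊢
      rw [pow_two]
      exact h a ha
    | succ i ih =>
      intro a ha
      rw [show i + 1 + 1 = (i + 1) + 1 from rfl, pow_succ] at ha
      induction ha using Submodule.mul_induction_on' with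
      | mem_mul_mem u hu v hv =>
        obtain ⟨μ, hμ⟩ := ih u hu
        obtain ⟨ν, hν⟩ := h v hv
        have hν' : v - ν • x₀ ∈ L ^ 2 := by rwa [pow_two]
        refine ⟨μ * ν, ?_⟩
        have h2 : u * v - (μ * ν) • x₀ ^ (i + 1 + 1) =
            μ • (x₀ ^ (i + 1) * (v - ν • x₀)) + ν • ((u - μ • x₀ ^ (i + 1)) * x₀) +
              (u - μ • x₀ ^ (i + 1)) * (v - ν • x₀) := by
          rw [pow_succ x₀ (i + 1)]
          simp only [mul_sub, sub_mul, smul_sub, mul_smul_comm, smul_mul_assoc, smul_smul]
          rw [mul_comm ν μ]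
          abel
        rw [h2]
        refine Submodule.add_mem _ (Submodule.add_mem _ (Submodule.smul_mem _ _ ?_) (Submodule.smul_mem _ _ ?_)) ?_
        · exact hmul _ _ _ (hx i) _ hν'
        · have := hmul _ _ _ hμ _ (show x₀ ∈ L ^ 1 by rwa [pow_one])
          exact this
        · exact hmono _ (hmul _ _ _ hμ _ hν')
      | add u _ v _ hu hv =>
        obtain ⟨μ, hμ⟩ := hu
        obtain ⟨ν, hν⟩ := hv
        refine ⟨μ + ν, ?_⟩
        have h2 : u + v - (μ + ν) • x₀ ^ (i + 1 + 1) = (u - μ • x₀ ^ (i + 1 + 1)) + (v - ν • x₀ ^ (i + 1 + 1)) := by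
          rw [add_smul]
          abel
        rw [h2]
        exact Submodule.add_mem _ hμ hν
  have hbot : ∀ m, N ≤ m → L ^ m = ⊥ := by
    intro m hm
    obtain ⟨d, rfl⟩ := Nat.exists_eq_add_of_le hm
    rw [pow_add, hN, Submodule.bot_mul]
  have hCom : ∀ k i j, 2 * N ≤ i + j + k → ∀ a ∈ L ^ (i + 1), ∀ b ∈ L ^ (j + 1), a * b = b * a := by
    intro k
    induction k with
    | zero =>
      intro i j hij a ha b hb
      by_cases hi : N ≤ i + 1
      · rw [hbot _ hi] at ha
        rw [(Submodule.mem_bot F).mp ha, zero_mul, mul_zero]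
      · have hj : N ≤ j + 1 := by omega
        rw [hbot _ hj] at hb
        rw [(Submodule.mem_bot F).mp hb, zero_mul, mul_zero]
    | succ k ih =>
      intro i j hij a ha b hb
      obtain ⟨μ, hμ⟩ := hS i a ha
      obtain ⟨ν, hν⟩ := hS j b hb
      have h1 : x₀ ^ (i + 1) * (b - ν • x₀ ^ (j + 1)) = (b - ν • x₀ ^ (j + 1)) * x₀ ^ (i + 1) :=
        ih i (j + 1) (by omega) _ (hx i) _ hν
      have h2 : (a - μ • x₀ ^ (i + 1)) * x₀ ^ (j + 1) = x₀ ^ (j + 1) * (a - μ • x₀ ^ (i + 1)) :=
        ih (i + 1) j (by omega) _ hμ _ (hx j)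
      have h3 : (a - μ • x₀ ^ (i + 1)) * (b - ν • x₀ ^ (j + 1)) = (b - ν • x₀ ^ (j + 1)) * (a - μ • x₀ ^ (i + 1)) :=
        ih (i + 1) (j + 1) (by omega) _ hμ _ hν
      have h4 : x₀ ^ (i + 1) * x₀ ^ (j + 1) = x₀ ^ (j + 1) * x₀ ^ (i + 1) := (Commute.pow_pow (Commute.refl x₀) _ _).eq
      have ha' : a = (a - μ • x₀ ^ (i + 1)) + μ • x₀ ^ (i + 1) := by abel
      have hb' : b = (b - ν • x₀ ^ (j + 1)) + ν • x₀ ^ (j + 1) := by abel
      rw [ha', hb']
      generalize a - μ • x₀ ^ (i + 1) = a' at h1 h2 h3
      generalize b - ν • x₀ ^ (j + 1) = b' at h1 h2 h3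
      simp only [add_mul, mul_add, smul_mul_assoc, mul_smul_comm, smul_add, smul_smul]
      rw [h1, h2, h3, h4, mul_comm μ ν]
      abel
  intro a ha b hb
  exact hCom (2 * N) 0 0 (by omega) a (by rwa [zero_add, pow_one]) b (by rwa [zero_add, pow_one])

section Final

variable (hπ : Function.Surjective π) {N : ℕ} (hN : (LinearMap.ker π.toLinearMap) ^ N = ⊥)
  (hε : IsIdempotentElem ε) (hπε : π ε = Matrix.single 0 0 (1 : F)) (hx : ∀ i, π (x i) = Matrix.single i 0 (1 : F)) (hy : ∀ i, π (y i) = Matrix.single 0 i (1 : F))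
  (h1 : ∑ i, x i * ε * y i = 1)

include hε hπε in
theorem exists_scalar_of_corner {a : A} (ha : a ∈ corner (F := F) ε hε) : ∃ l : F, π (a - l • ε) = 0 := by
  refine ⟨π a 0 0, ?_⟩
  have h2 : π a = Matrix.single 0 0 (1 : F) * π a * Matrix.single 0 0 (1 : F) := by
    have h4 : π a = π (ε * a * ε) := by rw [mul_assoc, ha.2, ha.1]
    rw [map_mul, map_mul, hπε] at h4
    exact h4
  have h3 : π a = π a 0 0 • Matrix.single 0 0 (1 : F) := by
    conv_lhs => rw [h2]
    rw [Matrix.single_mul_mul_single, one_mul, mul_one, Matrix.smul_single, smul_eq_mul, mul_one]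
  rw [map_sub, map_smul, hπε, ← h3, sub_self]

theorem mem_ker_iff {a : A} : a ∈ LinearMap.ker π.toLinearMap ↔ π a = 0 := by
  simp

include hπ hN hε hπε hx hy h1 in
/-- The corner is commutative when there are few trace functionals. -/
theorem corner_comm (hd : finrank F (traceFun F A) ≤ 2) :
    ∀ a ∈ corner (F := F) ε hε, ∀ b ∈ corner (F := F) ε hε, a * b = b * a := by
  classical
  set C := corner (F := F) ε hε with hC
  set J := LinearMap.ker π.toLinearMap with hJ
  set L : Submodule F A := C ⊓ J with hL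
  have hmemL : ∀ a, a ∈ L ↔ a ∈ C ∧ π a = 0 := fun a => by
    rw [hL, Submodule.mem_inf, mem_ker_iff]
  have hLL : L * L ≤ L := by
    rw [Submodule.mul_le]
    intro a ha b hb
    rw [hmemL] at ha hb ⊢
    exact ⟨mul_mem_corner ha.1 hb.1, by rw [map_mul, ha.2, zero_mul]⟩
  have hLC : L ≤ C := inf_le_left
  have hdec : ∀ a ∈ C, ∃ l : F, a - l • ε ∈ L := by
    intro a ha
    obtain ⟨l, hl⟩ := exists_scalar_of_corner π hε hπε ha
    refine ⟨l, (hmemL _).mpr ⟨Submodule.sub_mem _ ha (Submodule.smul_mem _ _ ?_), hl⟩⟩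
    exact ⟨hε.eq, hε.eq⟩
  have hεC : ε ∈ C := ⟨hε.eq, hε.eq⟩
  have hεL : ε ∉ L := by
    intro h
    have h2 := ((hmemL _).mp h).2
    rw [hπε] at h2
    have h3 := congrFun (congrFun h2 0) 0
    simp at h3
  -- commutators in the corner
  have hcomm : ∀ a ∈ C, ∀ b ∈ C, a * b - b * a ∈ L * L := by
    intro a ha b hb
    obtain ⟨l, hl⟩ := hdec a ha
    obtain ⟨m, hm⟩ := hdec b hb
    have h2 : a * b - b * a = (a - l • ε) * (b - m • ε) - (b - m • ε) * (a - l • ε) := by
      simp only [mul_sub, sub_mul, smul_mul_assoc, mul_smul_comm, ha.1, ha.2, hb.1, hb.2, hε.eq, smul_sub, smul_smul]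
      rw [mul_comm m l]
      abel
    rw [h2]
    exact Submodule.sub_mem _ (Submodule.mul_mem_mul hl hm) (Submodule.mul_mem_mul hm hl)
  have h3 : finrank F C ≤ finrank F (L * L : Submodule F A) + finrank F (traceFun F A) :=
    finrank_corner_le (F := F) hε h1 (L * L) (hLL.trans hLC) hcomm
  have h4 : finrank F L < finrank F C :=
    Submodule.finrank_lt_finrank_of_lt (lt_of_le_of_ne hLC (fun h => hεL (h ▸ hεC)))
  -- the generator
  have hgen : ∃ x₀ ∈ L, ∀ j ∈ L, ∃ μ : F, j - μ • x₀ ∈ L * L := by
    by_cases hLK : L ≤ L * L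
    · exact ⟨0, Submodule.zero_mem _, fun j hj => ⟨0, by simpa using hLK hj⟩⟩
    · obtain ⟨x₀, hx₀, hx₀K⟩ := SetLike.not_le_iff_exists.mp hLK
      refine ⟨x₀, hx₀, ?_⟩
      have h5 := Submodule.finrank_sup_span_singleton hx₀K
      have h6 : L * L ⊔ Submodule.span F {x₀} ≤ L :=
        sup_le hLL ((Submodule.span_singleton_le_iff_mem _ _).mpr hx₀)
      have h7 : L * L ⊔ Submodule.span F {x₀} = L :=
        Submodule.eq_of_le_of_finrank_le h6 (by omega)
      intro j hj
      rw [← h7, Submodule.mem_sup] at hj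
      obtain ⟨k, hk, z, hz, rfl⟩ := hj
      obtain ⟨μ, rfl⟩ := Submodule.mem_span_singleton.mp hz
      exact ⟨μ, by simpa using hk⟩
  obtain ⟨x₀, hx₀, hgen⟩ := hgen
  have hLN : L ^ (N + 1) = ⊥ := by
    have h5 : ∀ k, L ^ k ≤ J ^ k := fun k => by
      induction k with
      | zero => exact le_rfl
      | succ k ih =>
        rw [pow_succ, pow_succ]
        exact mul_le_mul' ih inf_le_right
    have h6 := h5 N
    rw [hN] at h6
    rw [pow_succ, le_bot_iff.mp h6, Submodule.bot_mul]
  have h5 := commute_of_gen L hLL hx₀ hgen hLN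
  intro a ha b hb
  obtain ⟨l, hl⟩ := hdec a ha
  obtain ⟨m, hm⟩ := hdec b hb
  have h6 : a * b - b * a = (a - l • ε) * (b - m • ε) - (b - m • ε) * (a - l • ε) := by
    simp only [mul_sub, sub_mul, smul_mul_assoc, mul_smul_comm, ha.1, ha.2, hb.1, hb.2, hε.eq, smul_sub, smul_smul]
    rw [mul_comm m l]
    abel
  rw [h5 _ hl _ hm, sub_self] at h6
  exact sub_eq_zero.mp h6

include hπ hN hε hπε hx hy h1 in
theorem finrank_corner_eq (hd : finrank F (traceFun F A) ≤ 2) :
    finrank F (corner (F := F) ε hε) = finrank F (traceFun F A) := by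
  classical
  have hc := corner_comm π hπ hN hε hπε hx hy h1 hd
  apply le_antisymm
  · have h2 := finrank_corner_le (F := F) hε h1 ⊥ bot_le (fun a ha b hb => by
      rw [hc a ha b hb, sub_self]
      exact Submodule.zero_mem _)
    simpa using h2
  · -- restriction to the corner is injective
    let Φ : traceFun F A →ₗ[F] Module.Dual F (corner (F := F) ε hε) :=
      { toFun := fun f => (f : Module.Dual F A).comp (corner (F := F) ε hε).subtype
        map_add' := fun f g => rfl
        map_smul' := fun c f => rfl }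
    have hinj : Function.Injective Φ := by
      intro f g hfg
      apply Subtype.ext
      apply LinearMap.ext
      intro a
      have h2 : ∀ (f : traceFun F A) (a : A), (f : Module.Dual F A) a = (f : Module.Dual F A) (transferMap (F := F) ε x y a) := by
        intro f a
        rw [transferMap_apply, map_sum]
        conv_lhs => rw [← one_mul a, ← h1, Finset.sum_mul, map_sum]
        refine Finset.sum_congr rfl fun i _ => ?_
        have h3 := f.2 (x i * ε) (ε * y i * a)
        have h4 : x i * ε * y i * a = x i * ε * (ε * y i * a) := by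
          calc x i * ε * y i * a = x i * (ε * ε) * y i * a := by rw [hε.eq]
            _ = _ := by simp only [mul_assoc]
        rw [h4, h3]
      rw [h2 f a, h2 g a]
      have h3 := congrArg (fun t : Module.Dual F (corner (F := F) ε hε) => t ⟨_, transferMap_mem (F := F) (x := x) (y := y) hε a⟩) hfg
      exact h3
    have h5 := LinearMap.finrank_le_finrank_of_injective hinj
    rwa [Subspace.dual_finrank_eq] at h5

/-- The map from matrices over the corner. -/
noncomputable def cornerMatrix (ε : A) (hε : IsIdempotentElem ε) (x y : Fin n → A) :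
    (Fin n → Fin n → corner (F := F) ε hε) →ₗ[F] A where
  toFun := fun c => ∑ i, ∑ j, x i * (c i j : A) * y j
  map_add' := fun c d => by
    simp only [Pi.add_apply, Submodule.coe_add, mul_add, add_mul, Finset.sum_add_distrib]
  map_smul' := fun t c => by
    simp only [Pi.smul_apply, Submodule.coe_smul, mul_smul_comm, smul_mul_assoc, RingHom.id_apply, Finset.smul_sum]

include h1 in
theorem cornerMatrix_surjective : Function.Surjective (cornerMatrix (F := F) ε hε x y) := by
  intro a
  refine ⟨fun i j => ⟨ε * (y i * a * x j) * ε, sandwich_mem_corner hε _⟩, ?_⟩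
  show ∑ i, ∑ j, x i * (ε * (y i * a * x j) * ε) * y j = a
  have h2 : ∀ i j, x i * (ε * (y i * a * x j) * ε) * y j = (x i * ε * y i) * a * (x j * ε * y j) := by
    intro i j
    simp only [mul_assoc]
  simp only [h2]
  have h3 : ∀ i, ∑ j, x i * ε * y i * a * (x j * ε * y j) = x i * ε * y i * a := by
    intro i
    rw [← Finset.mul_sum, h1, mul_one]
  simp only [h3]
  rw [← Finset.sum_mul, h1, one_mul]

include hπ hN hπε hx hy h1 in
theorem cornerMatrix_injective : Function.Injective (cornerMatrix (F := F) ε hε x y) := by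
  classical
  set J := LinearMap.ker π.toLinearMap with hJ
  intro c d hcd
  -- reduce to a difference
  have hsub : ∀ e : Fin n → Fin n → corner (F := F) ε hε, cornerMatrix (F := F) ε hε x y e = 0 → e = 0 := by
    intro c hc
    have hc' : ∑ k, ∑ l, x k * (c k l : A) * y l = 0 := hc
    -- the matrix `Y`
    let N' : Fin n → Fin n → A := fun i k => ε * y i * (x k * ε) - (if i = k then ε else 0)
    have hN' : ∀ i k, π (N' i k) = 0 := by
      intro i k
      simp only [N']
      rw [map_sub, map_mul, map_mul, map_mul, hπε, hy, hx]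
      by_cases hik : i = k
      · subst hik
        simp [hπε]
      · simp [hik]
    have hNJ : ∀ i k, N' i k ∈ J := fun i k => (mem_ker_iff π).mpr (hN' i k)
    have hY : ∀ i k, ε * y i * (x k * ε) = (if i = k then ε else 0) + N' i k := fun i k => by
      simp only [N']
      abel
    have hmain : ∀ i j, (c i j : A) = - ∑ l, (c i l : A) * N' l j - ∑ k, N' i k * (c k j : A) -
        ∑ k, ∑ l, N' i k * (c k l : A) * N' l j := by
      intro i j
      have h2 : ε * y i * (∑ k, ∑ l, x k * (c k l : A) * y l) * (x j * ε) = 0 := by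
        rw [hc', mul_zero, zero_mul]
      have h3 : ε * y i * (∑ k, ∑ l, x k * (c k l : A) * y l) * (x j * ε) =
          ∑ k, ∑ l, (ε * y i * (x k * ε)) * (c k l : A) * (ε * y l * (x j * ε)) := by
        rw [Finset.mul_sum, Finset.sum_mul]
        refine Finset.sum_congr rfl fun k _ => ?_
        rw [Finset.mul_sum, Finset.sum_mul]
        refine Finset.sum_congr rfl fun l _ => ?_
        have h4 : (c k l : A) = ε * (c k l : A) * ε := by
          rw [mul_assoc, (c k l).2.2, (c k l).2.1]
        calc ε * y i * (x k * (c k l : A) * y l) * (x j * ε)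
            = ε * y i * x k * (c k l : A) * y l * (x j * ε) := by simp only [mul_assoc]
          _ = ε * y i * x k * (ε * (c k l : A) * ε) * y l * (x j * ε) := by rw [← h4]
          _ = _ := by simp only [mul_assoc]
      rw [h3] at h2
      have hterm : ∀ k l, (ε * y i * (x k * ε)) * (c k l : A) * (ε * y l * (x j * ε)) =
          (if i = k then (if l = j then (c k l : A) else 0) else 0) + (if i = k then (c k l : A) * N' l j else 0) +
            (if l = j then N' i k * (c k l : A) else 0) + N' i k * (c k l : A) * N' l j := by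
        intro k l
        have h₁ := (c k l).2.1
        have h₂ := (c k l).2.2
        rw [hY, hY]
        generalize (c k l : A) = C₀ at h₁ h₂
        generalize N' i k = U
        generalize N' l j = V
        have h₃ : U * C₀ * ε = U * C₀ := by rw [mul_assoc, h₂]
        by_cases hik : i = k <;> by_cases hlj : l = j
        · simp only [if_pos hik, if_pos hlj]
          have e1 : (ε + U) * C₀ * (ε + V) = ε * C₀ * ε + ε * C₀ * V + U * C₀ * ε + U * C₀ * V := by
            simp only [add_mul, mul_add]
            abel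
          rw [e1, h₁, h₂, h₃]
        · simp only [if_pos hik, if_neg hlj, zero_add, add_zero]
          have e1 : (ε + U) * C₀ * V = ε * C₀ * V + U * C₀ * V := by
            simp only [add_mul]
          rw [e1, h₁]
        · simp only [if_neg hik, if_pos hlj, zero_add]
          have e1 : U * C₀ * (ε + V) = U * C₀ * ε + U * C₀ * V := by
            simp only [mul_add]
          rw [e1, h₃]
        · simp only [if_neg hik, if_neg hlj, zero_add, add_zero]
      simp only [hterm, Finset.sum_add_distrib] at h2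
      have hs1 : ∑ k, ∑ l, (if i = k then (if l = j then (c k l : A) else 0) else 0) = (c i j : A) := by
        simp
      have hs2 : ∑ k, ∑ l, (if i = k then (c k l : A) * N' l j else 0) = ∑ l, (c i l : A) * N' l j := by
        rw [Finset.sum_comm]
        simp
      have hs3 : ∑ k, ∑ l, (if l = j then N' i k * (c k l : A) else 0) = ∑ k, N' i k * (c k j : A) := by
        simp
      rw [hs1, hs2, hs3] at h2
      rw [eq_sub_iff_add_eq, eq_sub_iff_add_eq, eq_neg_iff_add_eq_zero, ← h2]
      abel
    have hLL : J * J ≤ J := by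
      rw [Submodule.mul_le]
      intro a ha b hb
      rw [mem_ker_iff] at ha hb ⊢
      rw [map_mul, ha, zero_mul]
    have hmono : ∀ k, J ^ (k + 2) ≤ J ^ (k + 1) := by
      intro k
      have h1 : J ^ (k + 2) = J ^ k * (J * J) := by rw [pow_succ, pow_succ, mul_assoc]
      rw [h1, pow_succ]
      exact mul_le_mul_right hLL _
    have hall : ∀ t i j, (c i j : A) ∈ J ^ (t + 1) := by
      intro t
      induction t with
      | zero =>
        intro i j
        rw [zero_add, pow_one, hmain i j]
        refine Submodule.sub_mem _ (Submodule.sub_mem _ (Submodule.neg_mem _ (Submodule.sum_mem _ fun l _ => ?_))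
          (Submodule.sum_mem _ fun k _ => ?_)) (Submodule.sum_mem _ fun k _ => Submodule.sum_mem _ fun l _ => ?_)
        · rw [mem_ker_iff, map_mul, hN', mul_zero]
        · rw [mem_ker_iff, map_mul, hN', zero_mul]
        · rw [mem_ker_iff, map_mul, hN', mul_zero]
      | succ t ih =>
        intro i j
        rw [hmain i j]
        refine Submodule.sub_mem _ (Submodule.sub_mem _ (Submodule.neg_mem _ (Submodule.sum_mem _ fun l _ => ?_))
          (Submodule.sum_mem _ fun k _ => ?_)) (Submodule.sum_mem _ fun k _ => Submodule.sum_mem _ fun l _ => ?_)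
        · rw [pow_succ J (t + 1)]
          exact Submodule.mul_mem_mul (ih i l) (hNJ l j)
        · rw [pow_succ' J (t + 1)]
          exact Submodule.mul_mem_mul (hNJ i k) (ih k j)
        · apply hmono
          rw [pow_succ J (t + 2), pow_succ' J (t + 1)]
          exact Submodule.mul_mem_mul (Submodule.mul_mem_mul (hNJ i k) (ih k l)) (hNJ l j)
    funext i j
    apply Subtype.ext
    have h3 := hall N i j
    rw [pow_succ, hN, Submodule.bot_mul, Submodule.mem_bot] at h3
    exact h3
  have h2 := hsub (c - d) (by rw [map_sub, hcd, sub_self])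
  exact sub_eq_zero.mp h2

include hπ hN hε hπε hx hy h1 in
theorem finrank_eq_of_data (hd : finrank F (traceFun F A) ≤ 2) :
    finrank F A = n ^ 2 * finrank F (traceFun F A) := by
  classical
  let e := LinearEquiv.ofBijective (cornerMatrix (F := F) ε hε x y)
    ⟨cornerMatrix_injective π hπ hN hε hπε hx hy h1, cornerMatrix_surjective hε h1⟩
  rw [← e.finrank_eq, Module.finrank_pi_fintype]
  simp only [Module.finrank_pi_fintype, Finset.sum_const, Finset.card_univ, Fintype.card_fin, smul_eq_mul]
  rw [finrank_corner_eq π hπ hN hε hπε hx hy h1 hd, pow_two, mul_assoc]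

end Final

/-- **The main theorem.** -/
theorem finrank_eq_of_traceFun_le (hπ : Function.Surjective π) {N : ℕ} (hN : (LinearMap.ker π.toLinearMap) ^ N = ⊥)
    (hd : finrank F (traceFun F A) ≤ 2) :
    finrank F A = n ^ 2 * finrank F (traceFun F A) := by
  obtain ⟨ε, x, y, hε, hπε, hx, hy, h1⟩ := exists_corner_data π hπ hN
  exact finrank_eq_of_data π hπ hN hε hπε hx hy h1 hd

end Main

end Cfsg.Agent.Lib.LocalAlg
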