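import Cfsg.Agent.Lib.LocalAlg.Wedder
import Cfsg.Agent.Lib.Blocks.PrincipalFinal
import Cfsg.Agent.Lib.H8Group.RankOne
import Cfsg.Agent.Lib.H8Group.RankFormula
import Cfsg.Agent.Lib.Blocks.DefectOneTwo
import Cfsg.Agent.Lib.Blocks.Inflate

/-!
# Blocks with exactly two irreducible characters
-/

set_option autoImplicit false
set_option linter.unusedSectionVars false
set_option linter.unusedVariables false

namespace Cfsg.Agent.Lib.LocalAlg

open Cfsg Cfsg.Agent.Lib.Char Cfsg.Agent.Lib.Blocks Cfsg.Agent.Lib.H8Group Finset Module MonoidAlgebra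
open scoped ComplexConjugate

universe u

section Lin

variable {ι : Type*} [Fintype ι] [DecidableEq ι]

theorem rank_map_le_of_lift {S K L : Type*} [CommRing S] [Field K] [Field L] (mk : S →+* K)
    (hmk : Function.Surjective mk) (i : S →+* L) (hi : Function.Injective i) (X : Matrix ι ι S) :
    (X.map mk).rank ≤ (X.map i).rank := by
  classical
  obtain ⟨r, hr, B, C, B', C', h1, h2, h3⟩ := exists_rank_factor (X.map mk)
  rw [← hr]
  choose sec hsec using hmk
  let Bl : Matrix (Fin r) ι S := Matrix.of fun a b => sec (B' a b)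
  let Cl : Matrix ι (Fin r) S := Matrix.of fun a b => sec (C' a b)
  let Z : Matrix (Fin r) (Fin r) S := Bl * X * Cl
  have hBl : Bl.map mk = B' := by
    ext a b
    simp [Bl, hsec]
  have hCl : Cl.map mk = C' := by
    ext a b
    simp [Cl, hsec]
  have hZ : Z.map mk = 1 := by
    have h4 : Z.map mk = B' * (X.map mk) * C' := by
      simp only [Z, Matrix.map_mul, hBl, hCl]
    rw [h4, h1, Matrix.mul_assoc, Matrix.mul_assoc B, h3, Matrix.mul_one, h2]
  have hdet : mk Z.det = 1 := by
    rw [RingHom.map_det]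
    show (Z.map mk).det = 1
    rw [hZ, Matrix.det_one]
  have hdet0 : Z.det ≠ 0 := fun h => by
    rw [h, map_zero] at hdet
    exact zero_ne_one hdet
  have hdetL : (Z.map i).det ≠ 0 := by
    have h5 : (Z.map i).det = i Z.det := (RingHom.map_det i Z).symm
    rw [h5]
    exact fun h => hdet0 (hi (by rw [h, map_zero]))
  have hrk : (Z.map i).rank = r := by
    have hU : IsUnit (Z.map i) := (Matrix.isUnit_iff_isUnit_det _).mpr (isUnit_iff_ne_zero.mpr hdetL)
    rw [Matrix.rank_of_isUnit _ hU]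
    simp
  rw [← hrk]
  have h6 : Z.map i = (Bl.map i) * (X.map i) * (Cl.map i) := by
    simp only [Z, Matrix.map_mul]
  rw [h6]
  exact (Matrix.rank_mul_le_left _ _).trans (Matrix.rank_mul_le_right _ _)

theorem rank_add_rank_of_idem {K : Type*} [Field K] (P : Matrix ι ι K) (hP : P * P = P) :
    P.rank + (1 - P).rank = Fintype.card ι := by
  classical
  have h1 := LinearMap.finrank_range_add_finrank_ker (Matrix.mulVecLin P)
  rw [Module.finrank_fintype_fun_eq_card] at h1
  have h2 : LinearMap.ker P.mulVecLin = LinearMap.range (1 - P).mulVecLin := by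
    ext v
    simp only [LinearMap.mem_ker, LinearMap.mem_range, Matrix.mulVecLin_apply]
    constructor
    · intro hv
      exact ⟨v, by rw [Matrix.sub_mulVec, Matrix.one_mulVec, hv, sub_zero]⟩
    · rintro ⟨w, rfl⟩
      rw [Matrix.mulVec_mulVec, Matrix.mul_sub, Matrix.mul_one, hP, sub_self, Matrix.zero_mulVec]
  rw [h2] at h1
  exact h1

theorem rank_eq_trace_of_idem (P : Matrix ι ι ℂ) (hP : P * P = P) : (P.rank : ℂ) = P.trace := by
  classical
  have hid : (Matrix.toLin' P) * (Matrix.toLin' P) = Matrix.toLin' P := by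
    rw [Module.End.mul_eq_comp, ← Matrix.toLin'_mul, hP]
  have hidem : IsIdempotentElem (Matrix.toLin' P) := hid
  have hproj := (LinearMap.isProj_range_iff_isIdempotentElem (Matrix.toLin' P)).mpr hidem
  have htr := hproj.trace
  have h1 : LinearMap.trace ℂ _ (Matrix.toLin' P) = P.trace := by
    rw [← Matrix.toLin_eq_toLin', Matrix.trace_toLin_eq]
  rw [h1] at htr
  rw [htr]
  rfl

theorem map_one_sub_matrix {S T : Type*} [CommRing S] [Field T] (f : S →+* T) (X : Matrix ι ι S) :
    (1 - X).map f = 1 - X.map f := by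
  ext a b
  by_cases hab : a = b
  · subst hab
    simp [Matrix.sub_apply]
  · simp [Matrix.sub_apply, hab]

/-- Rank of a lifted idempotent. -/
theorem rank_map_eq_of_idem {S K L : Type*} [CommRing S] [Field K] [Field L] (mk : S →+* K)
    (hmk : Function.Surjective mk) (i : S →+* L) (hi : Function.Injective i) (X : Matrix ι ι S)
    (hX : X * X = X) : (X.map mk).rank = (X.map i).rank := by
  classical
  have h1 := rank_map_le_of_lift mk hmk i hi X
  have h2 := rank_map_le_of_lift mk hmk i hi (1 - X)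
  rw [map_one_sub_matrix, map_one_sub_matrix] at h2
  have h3 := rank_add_rank_of_idem (X.map mk) (by rw [← Matrix.map_mul, hX])
  have h4 := rank_add_rank_of_idem (X.map i) (by rw [← Matrix.map_mul, hX])
  omega

end Lin

section Numeric

theorem numeric_two {p f n d₁ d₂ a : ℕ} (hp : p.Prime) (h : f ^ 2 * p ^ a = 2 * n ^ 2) (hf : f ≠ 0)
    (hsum : d₁ ^ 2 + d₂ ^ 2 = p ^ a) (hcop : Nat.Coprime d₁ d₂) (hd₁ : 0 < d₁) (hd₂ : 0 < d₂) : p ^ a = 2 := by
  have hpa : 2 ≤ p ^ a := by
    rw [← hsum]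
    have h1 : 1 ≤ d₁ ^ 2 := Nat.one_le_pow _ _ hd₁
    have h2 : 1 ≤ d₂ ^ 2 := Nat.one_le_pow _ _ hd₂
    omega
  have hn : n ≠ 0 := by
    rintro rfl
    have h1 : f ^ 2 * p ^ a ≠ 0 := by positivity
    simp at h
    rcases h with h | h
    · exact hf h
    · exact hp.ne_zero h.1
  have h2 : Nat.Prime 2 := Nat.prime_two
  have hfac := congrArg (fun x => x.factorization 2) h
  simp only [Nat.factorization_mul (pow_ne_zero 2 hf) (pow_ne_zero a hp.ne_zero),
    Nat.factorization_mul (two_ne_zero) (pow_ne_zero 2 hn), Finsupp.add_apply, Nat.factorization_pow,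
    Finsupp.smul_apply, smul_eq_mul, h2.factorization_self] at hfac
  have hp2 : p = 2 := by
    by_contra hne
    have h3 : p.factorization 2 = 0 := by
      rw [hp.factorization]
      simp [hne]
    rw [h3] at hfac
    omega
  subst hp2
  have ha : a ≠ 0 := by
    rintro rfl
    simp at hpa
  -- `a = 1`
  by_contra hne
  have ha2 : 2 ≤ a := by
    rcases Nat.lt_or_ge a 2 with h3 | h3
    · exfalso
      apply hne
      have : a = 1 := by omega
      rw [this, pow_one]
    · exact h3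
  obtain ⟨b, rfl⟩ : ∃ b, a = b + 2 := ⟨a - 2, by omega⟩
  have h4 : d₁ ^ 2 + d₂ ^ 2 = 4 * 2 ^ b := by
    rw [hsum]
    ring
  have h5 : (d₁ ^ 2 + d₂ ^ 2) % 4 = 0 := by omega
  have hmod : ∀ x : ℕ, x ^ 2 % 4 = 0 ∧ x % 2 = 0 ∨ x ^ 2 % 4 = 1 ∧ x % 2 = 1 := by
    intro x
    rcases Nat.even_or_odd' x with ⟨c, rfl | rfl⟩
    · left
      constructor
      · have : (2 * c) ^ 2 = 4 * c ^ 2 := by ring
        omega
      · omega
    · right
      constructor
      · have : (2 * c + 1) ^ 2 = 4 * (c ^ 2 + c) + 1 := by ring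
        omega
      · omega
  rcases hmod d₁ with ⟨h6, h7⟩ | ⟨h6, h7⟩ <;> rcases hmod d₂ with ⟨h8, h9⟩ | ⟨h8, h9⟩
  · have h10 : 2 ∣ Nat.gcd d₁ d₂ := Nat.dvd_gcd (by omega) (by omega)
    rw [hcop] at h10
    omega
  · omega
  · omega
  · omega

end Numeric

section Generic

variable {G : Type u} [Group G] [Fintype G] {F : Type} [Field F] {e : G → F} (hcl : ∀ g x, e (x * g * x⁻¹) = e g)

/-- The linear map to functions on the group. -/
noncomputable def ofDualL : Module.Dual F (BA hcl) →ₗ[F] (G → F) where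
  toFun := ofDual hcl
  map_add' _ _ := rfl
  map_smul' _ _ := rfl

/-- The trace functionals as functions on the group. -/
noncomputable def traceImg : Submodule F (G → F) := (traceFun F (BA hcl)).map (ofDualL hcl)

theorem finrank_traceImg : finrank F (traceImg hcl) = finrank F (traceFun F (BA hcl)) :=
  (Submodule.equivMapOfInjective (ofDualL hcl) (ofDual_injective hcl) _).finrank_eq.symm

/-- The number of trace functionals in a block algebra. -/
theorem finrank_traceFun_le_of_bound (hid : ∀ t, ∑ w, e w * e (w⁻¹ * t) = e t) (k : ℕ)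
    (hb : ∀ (ι : Type) [Fintype ι] [DecidableEq ι] (τ : ι → G → F), LinearIndependent F τ →
      (∀ i g x, τ i (x * g * x⁻¹) = τ i g) → (∀ i g, ∑ u, e u * τ i (u * g) = τ i g) → Fintype.card ι ≤ k) :
    finrank F (traceFun F (BA hcl)) ≤ k := by
  classical
  rw [← finrank_traceImg]
  let b := finBasis F (traceImg hcl)
  have hτ : LinearIndependent F (fun i => (b i : G → F)) :=
    b.linearIndependent.map' (traceImg hcl).subtype (Submodule.ker_subtype _)
  have hex : ∀ i, ∃ f ∈ traceFun F (BA hcl), ofDual hcl f = (b i : G → F) := fun i => (b i).2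
  choose f hf hfe using hex
  have h1 := hb _ (fun i => (b i : G → F)) hτ
    (fun i g x => by
      rw [← hfe i]
      exact ofDual_class _ (hf i) g x)
    (fun i g => by
      rw [← hfe i]
      exact sum_single_mul _ hid _ g)
  simpa using h1

/-- The part of the proof excluding a single trace functional. -/
theorem finrank_traceFun_ne_one_aux {p : ℕ} [hp : Fact p.Prime] [CharP F p]
    (hid : ∀ t, ∑ w, e w * e (w⁻¹ * t) = e t) {n : ℕ} [NeZero n] (π : BA hcl →ₐ[F] Matrix (Fin n) (Fin n) F)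
    (hπ : Function.Surjective π) (hvan : ∀ y : G, p ∣ orderOf y → e y = 0) {g u : G} (hg : e g ≠ 0)
    (hgreg : ¬ p ∣ orderOf g) (hcomm : Commute u g) {j : ℕ} (hj' : orderOf u = p ^ j) (hu1 : u ≠ 1) :
    finrank F (traceFun F (BA hcl)) ≠ 1 := by
  classical
  intro h1
  have hpp : p.Prime := hp.out
  rw [← finrank_traceImg] at h1
  have htr : ofDual hcl (trDual π) ∈ traceImg hcl := ⟨_, trDual_mem π, rfl⟩
  have hne : (⟨_, htr⟩ : traceImg hcl) ≠ 0 := by
    intro h0
    have h3 : ofDual hcl (trDual π) = ofDual hcl 0 := congrArg Subtype.val h0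
    have h3' := ofDual_injective hcl h3
    obtain ⟨a, ha⟩ := hπ (Matrix.single 0 0 1)
    have h4 := congrArg (fun f => f a) h3'
    simp only [trDual_apply, ha, Matrix.trace_single_eq_same, LinearMap.zero_apply] at h4
    exact one_ne_zero h4
  let t : G → F := fun g => e g⁻¹
  have htcl : ∀ g x, t (x * g * x⁻¹) = t g := by
    intro g x
    simp only [t]
    have h3 : (x * g * x⁻¹)⁻¹ = x * g⁻¹ * x⁻¹ := by group
    rw [h3]
    exact hcl _ _
  have htfix : ∀ g, ∑ u, e u * t (u * g) = t g := by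
    intro g
    simp only [t]
    rw [← hid g⁻¹]
    refine sum_congr rfl fun u _ => ?_
    congr 1
    rw [← hcl ((u * g)⁻¹) u⁻¹]
    congr 1
    group
  obtain ⟨f, hfmem, hft⟩ := exists_dual_of_fun hcl hid t htcl htfix
  obtain ⟨c, hc⟩ := (finrank_eq_one_iff_of_nonzero' _ hne).mp h1 ⟨ofDual hcl f, ⟨f, hfmem, rfl⟩⟩
  have hf : c • ofDual hcl (trDual π) = ofDual hcl f := congrArg Subtype.val hc
  have ht : ∀ g, e g⁻¹ = c * ofDual hcl (trDual π) g := by
    intro g
    have h3 := congrFun hf g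
    have h5 : ofDual hcl f g = t g := hft g
    rw [Pi.smul_apply, smul_eq_mul, h5] at h3
    exact h3.symm
  have hcomm' : Commute u g⁻¹ := hcomm.inv_right
  have h3 := tr_section hcl π hcomm' hj'
  have h4 : e g = e (u * g⁻¹)⁻¹ := by
    rw [ht (u * g⁻¹), h3, ← ht g⁻¹, inv_inv]
  have hsing : p ∣ orderOf (u * g⁻¹)⁻¹ := by
    rw [orderOf_inv]
    have hjne : j ≠ 0 := by
      rintro rfl
      rw [pow_zero] at hj'
      exact hu1 (orderOf_eq_one_iff.mp hj')
    have hcop : Nat.Coprime (orderOf u) (orderOf g⁻¹) := by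
      rw [hj', orderOf_inv]
      exact Nat.Coprime.pow_left _ ((Nat.Prime.coprime_iff_not_dvd hpp).mpr hgreg)
    rw [hcomm'.orderOf_mul_eq_mul_orderOf_of_coprime hcop, hj']
    exact Dvd.dvd.mul_right (dvd_pow_self p hjne) _
  rw [hvan _ hsing] at h4
  exact hg h4

/-- The dimension of a block algebra with one simple module and at most two trace functionals. -/
theorem exists_dim_eq [IsAlgClosed F] {p : ℕ} [hp : Fact p.Prime] [CharP F p]
    (hid : ∀ t, ∑ w, e w * e (w⁻¹ * t) = e t) (K : ℕ) (hdim : finrank F (BA hcl) = K) (hK : 0 < K)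
    (hrank : ∀ (m : ℕ) (τ : Fin m → G → F), LinearIndependent F τ → (∀ i g x, τ i (x * g * x⁻¹) = τ i g) →
      (∀ i a b j, Commute a b → orderOf a = p ^ j → τ i (a * b) = τ i b) →
      (∀ i g, ∑ u, e u * τ i (u * g) = τ i g) → m ≤ 1)
    (hb : ∀ (ι : Type) [Fintype ι] [DecidableEq ι] (τ : ι → G → F), LinearIndependent F τ →
      (∀ i g x, τ i (x * g * x⁻¹) = τ i g) → (∀ i g, ∑ u, e u * τ i (u * g) = τ i g) → Fintype.card ι ≤ 2)
    (hvan : ∀ y : G, p ∣ orderOf y → e y = 0) {g u : G} (hg : e g ≠ 0)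
    (hgreg : ¬ p ∣ orderOf g) (hcomm : Commute u g) {j : ℕ} (hj' : orderOf u = p ^ j) (hu1 : u ≠ 1) :
    ∃ m : ℕ, K = m ^ 2 * 2 := by
  classical
  have hfinpos : 0 < finrank F (BA hcl) := by rw [hdim]; exact hK
  haveI : Nontrivial (BA hcl) := Module.nontrivial_of_finrank_pos hfinpos
  obtain ⟨m, hm0, π, hπ, N, hN⟩ := exists_matrix_quotient hcl (p := p) hid hrank
  have hd2 := finrank_traceFun_le_of_bound hcl hid 2 hb
  have hd1 := finrank_traceFun_ne_one_aux hcl hid π hπ hvan hg hgreg hcomm hj' hu1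
  have hfinal := finrank_eq_of_traceFun_le π hπ hN hd2
  have hd0 : finrank F (traceFun F (BA hcl)) ≠ 0 := by
    intro h0
    rw [h0, mul_zero] at hfinal
    omega
  have htwo : finrank F (traceFun F (BA hcl)) = 2 := by omega
  rw [htwo, hdim] at hfinal
  exact ⟨m, hfinal⟩

end Generic

section Main

variable {G : Type u} [Group G] [Fintype G] {p : ℕ} [hp : Fact p.Prime] {M : Ideal AlgInt} [hMp : M.IsPrime]

/-- The dimension of the block algebra. -/
theorem finrank_blockAlg (B : Set (IrrCharacter G)) (hB : IsPBlock M B) [DecidablePred (· ∈ B)] :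
    finrank (ResF M) (BA (epsRes_class M B hB)) = ∑ χ ∈ univ.filter (· ∈ B), charDegree (χ : G → ℂ) ^ 2 := by
  classical
  rw [finrank_BA]
  let mk : locRing M →+* ResF M := Ideal.Quotient.mk (locMax M)
  have hmks : Function.Surjective mk := Ideal.Quotient.mk_surjective
  let i : locRing M →+* ℂ := (locRing M).subtype
  have hi : Function.Injective i := Subtype.val_injective
  let c₀ : G → locRing M := fun u => ⟨coef (indic B) u, coef_memLocalRing (indic_mem_zS hB) u⟩
  let X : Matrix G G (locRing M) := Matrix.of fun g h => c₀ (g * h⁻¹)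
  have hbar : (Matrix.of fun g h : G => epsRes M B hB (g * h⁻¹)) = X.map mk := by
    ext g h
    rfl
  have hconv : ∀ t : G, ∑ w, c₀ w * c₀ (w⁻¹ * t) = c₀ t := by
    intro t
    apply Subtype.ext
    have h2 := congrFun (coef_mul (indic B) (indic B)) t
    rw [indic_mul_self] at h2
    simp only [conv] at h2
    simpa [c₀] using h2.symm
  have hXX : X * X = X := by
    ext g h
    rw [Matrix.mul_apply]
    simp only [X, Matrix.of_apply]
    have h3 : ∑ w, c₀ (g * w⁻¹) * c₀ (w * h⁻¹) = ∑ w, c₀ w * c₀ (w⁻¹ * (g * h⁻¹)) := by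
      refine Fintype.sum_equiv ((Equiv.inv G).trans (Equiv.mulLeft g)) _ _ fun w => ?_
      simp only [Equiv.trans_apply, Equiv.inv_apply, Equiv.coe_mulLeft]
      congr 2
      group
    exact congrArg Subtype.val (h3.trans (hconv _))
  rw [hbar, rank_map_eq_of_idem mk hmks i hi X hXX]
  have hidem : X.map i * X.map i = X.map i := by
    rw [← Matrix.map_mul, hXX]
  have h1 := rank_eq_trace_of_idem (X.map i) hidem
  have h2 : (X.map i).trace = ∑ χ ∈ univ.filter (· ∈ B), ((charDegree (χ : G → ℂ) ^ 2 : ℕ) : ℂ) := by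
    simp only [Matrix.trace, Matrix.diag, Matrix.map_apply, X, Matrix.of_apply, mul_inv_cancel]
    rw [Finset.sum_const, Finset.card_univ, nsmul_eq_mul]
    show (Fintype.card G : ℂ) * coef (indic B) 1 = _
    rw [coef, ← Nat.card_eq_fintype_card, ← mul_assoc, mul_inv_cancel₀ (NeZero.ne _), one_mul]
    rw [← Finset.sum_filter_add_sum_filter_not Finset.univ (· ∈ B)]
    rw [Finset.sum_eq_zero (s := Finset.univ.filter (fun χ => ¬ χ ∈ B)), add_zero]
    · refine Finset.sum_congr rfl fun χ hχ => ?_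
      rw [indic_apply_of_mem (Finset.mem_filter.mp hχ).2, one_mul, irr_one_eq]
      simp [pow_two]
    · intro χ hχ
      rw [indic_apply_of_notMem (Finset.mem_filter.mp hχ).2, zero_mul]
  rw [h2] at h1
  exact_mod_cast h1

/-- A family of independent class functions fixed by the block idempotent has at most `k(B)` members. -/
theorem card_le_of_fix {B : Set (IrrCharacter G)} (hB : IsPBlock M B) [DecidablePred (· ∈ B)]
    {ι : Type} [Fintype ι] [DecidableEq ι] (τ : ι → G → ResF M)
    (hind : LinearIndependent (ResF M) τ) (hcl : ∀ i g x, τ i (x * g * x⁻¹) = τ i g)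
    (hfix : ∀ i g, ∑ u, epsRes M B hB u * τ i (u * g) = τ i g) :
    Fintype.card ι ≤ (univ.filter (· ∈ B)).card := by
  classical
  let mk : locRing M →+* ResF M := Ideal.Quotient.mk (locMax M)
  have hmks : Function.Surjective mk := Ideal.Quotient.mk_surjective
  let sec : ResF M → locRing M := Function.surjInv hmks
  have hsecs : ∀ x, mk (sec x) = x := Function.surjInv_eq hmks
  let c₀ : G → locRing M := fun u => ⟨coef (indic B) u, coef_memLocalRing (indic_mem_zS hB) u⟩
  have hc₀ : ∀ u, mk (c₀ u) = epsRes M _ hB u := fun u => rfl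
  let Fl : ι → G → locRing M := fun i g => ∑ x, c₀ x * sec (τ i (x * g))
  let hh : ι → G → ℂ := fun i g => ((sec (τ i g) : locRing M) : ℂ)
  have hhc : ∀ i, IsClassFunction G (hh i) := by
    intro i g x
    simp only [hh]
    rw [hcl]
  have hFl : ∀ i g, ((Fl i g : locRing M) : ℂ) = projOp (indic B) (hh i) g := by
    intro i g
    simp only [Fl, projOp, hh, c₀]
    push_cast
    rfl
  have hmkF : ∀ i g, mk (Fl i g) = τ i g := by
    intro i g
    simp only [Fl]
    rw [map_sum, ← hfix i g]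
    refine sum_congr rfl fun x _ => ?_
    rw [map_mul, hc₀, hsecs]
  obtain ⟨r, hr⟩ := exists_det_ne_zero_of_linearIndependent _ hind
  let Z : Matrix ι ι (locRing M) := Matrix.of fun i j => Fl i (r j)
  have hZ : mk Z.det ≠ 0 := by
    rw [RingHom.map_det]
    have hZeq : mk.mapMatrix Z = Matrix.of fun i j => τ i (r j) := by
      ext i j
      simp [Z, hmkF]
    rw [hZeq]
    exact hr
  have hZ0 : Z.det ≠ 0 := fun h => hZ (by rw [h, map_zero])
  let Zc : Matrix ι ι ℂ := Matrix.of fun i j => projOp (indic B) (hh i) (r j)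
  have hZc : Zc.det ≠ 0 := by
    have h1 : Zc = (locRing M).subtype.mapMatrix Z := by
      ext i j
      simp [Zc, Z, hFl]
    rw [h1, ← RingHom.map_det]
    intro h
    exact hZ0 (Subtype.ext h)
  refine card_le_of_span (fun i g => projOp (indic B) (hh i) g) ?_ (univ.filter (· ∈ B))
    (fun (χ : IrrCharacter G) g => (χ : G → ℂ) g) ?_
  · rw [Fintype.linearIndependent_iff]
    intro a ha
    have hv : Matrix.vecMul a Zc = 0 := by
      funext j
      have h1 := congrFun ha (r j)
      simpa [Matrix.vecMul, dotProduct, Zc, Finset.sum_apply] using h1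
    have h2 := Matrix.eq_zero_of_vecMul_eq_zero hZc hv
    intro i
    exact congrFun h2 i
  · intro i
    refine ⟨fun χ => classInner (hh i) (χ : G → ℂ), fun g => ?_⟩
    rw [projOp_eq_sum _ (hhc i) g, Finset.sum_filter]
    refine sum_congr rfl fun χ _ => ?_
    by_cases hχ : χ ∈ B
    · simp [hχ]
    · simp [hχ]

/-- The bound from a block of rank one. -/
theorem rank_le_one_of_blockRank (hM : IsPModular p M) {B : Set (IrrCharacter G)} (hB : IsPBlock M B)
    (hl : blockRank p B = 1) (m : ℕ) (τ : Fin m → G → ResF M) (hind : LinearIndependent (ResF M) τ)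
    (hcl : ∀ i g x, τ i (x * g * x⁻¹) = τ i g)
    (hsec : ∀ i a b j, Commute a b → orderOf a = p ^ j → τ i (a * b) = τ i b)
    (hfix : ∀ i g, ∑ u, epsRes M B hB u * τ i (u * g) = τ i g) : m ≤ 1 := by
  classical
  obtain ⟨f, hf1, hf2⟩ := exists_block_functions_aux hM hB τ hind hcl hsec hfix
  obtain ⟨χ₀, hχ₀⟩ := IsPBlock.nonempty hB
  let R := {g : G // ¬ p ∣ orderOf g}
  have hsm : ∀ χ : IrrCharacter G, ∃ a : ℂ, χ ∈ B → pRegularPart p (χ : G → ℂ) = a • pRegularPart p (χ₀ : G → ℂ) := by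
    intro χ
    by_cases hχ : χ ∈ B
    · obtain ⟨a, ha⟩ := exists_smul_of_rank_one hl hχ₀ hχ
      exact ⟨a, fun _ => ha⟩
    · exact ⟨0, fun h => absurd h hχ⟩
  choose a ha using hsm
  have h1 := card_le_of_span (fun i (r : R) => f i (r : G)) (by
      rw [Fintype.linearIndependent_iff]
      intro b hb i
      refine hf2 b (fun g hg => ?_) i
      have h2 := congrFun hb ⟨g, hg⟩
      simpa [Finset.sum_apply] using h2) ({χ₀} : Finset (IrrCharacter G)) (fun (χ : IrrCharacter G) (r : R) => (χ : G → ℂ) (r : G)) (by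
      intro i
      obtain ⟨c, hc⟩ := hf1 i
      refine ⟨fun _ => ∑ χ : IrrCharacter G, indic B χ * (c χ * a χ), fun r => ?_⟩
      rw [hc, Finset.sum_singleton, Finset.sum_mul]
      refine sum_congr rfl fun χ _ => ?_
      by_cases hχ : χ ∈ B
      · have h3 := congrFun (ha χ hχ) (r : G)
        rw [Pi.smul_apply, pRegularPart_of_not_dvd _ r.2, pRegularPart_of_not_dvd _ r.2, smul_eq_mul] at h3
        rw [h3]
        ring
      · simp [indic_apply_of_notMem hχ])
  simpa using h1

/-- Blocks with two characters have rank one. -/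
theorem blockRank_eq_one_of_card_two (hM : IsPModular p M) {B : Set (IrrCharacter G)} (hB : IsPBlock M B)
    (h2 : Nat.card B = 2) : blockRank p B = 1 := by
  classical
  have hpp : p.Prime := hp.out
  have hGpos : (0 : ℝ) < (Nat.card G : ℝ) := by exact_mod_cast Nat.card_pos
  let w : IrrCharacter G → G → ℝ := fun χ g => ‖(χ : G → ℂ) g‖ ^ 2
  let r : IrrCharacter G → ℝ := fun χ => (Nat.card G : ℝ)⁻¹ * ∑ g, if p ∣ orderOf g then 0 else w χ g
  have hself : ∀ χ : IrrCharacter G, (Nat.card G : ℝ)⁻¹ * ∑ g, w χ g = 1 := by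
    intro χ
    have h := classInner_irr_self χ.2
    rw [classInner] at h
    have h3 : (((Nat.card G : ℝ)⁻¹ * ∑ g, w χ g : ℝ) : ℂ) = 1 := by
      rw [← h]
      push_cast
      congr 1
      refine sum_congr rfl fun g _ => ?_
      rw [Complex.mul_conj']
      simp [w]
    exact_mod_cast h3
  have hr1 : ∀ χ : IrrCharacter G, classInner (pRegularPart p (χ : G → ℂ)) (χ : G → ℂ) = (r χ : ℂ) := by
    intro χ
    rw [classInner]
    simp only [r]
    push_cast
    congr 1
    refine sum_congr rfl fun g _ => ?_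
    by_cases hg : p ∣ orderOf g
    · rw [pRegularPart_of_dvd _ hg, if_pos hg]
      simp
    · rw [pRegularPart_of_not_dvd _ hg, if_neg hg, Complex.mul_conj']
      simp [w]
  have hr2 : ∀ χ : IrrCharacter G, r χ ≤ 1 := by
    intro χ
    rw [← hself χ]
    refine mul_le_mul_of_nonneg_left ?_ (by positivity)
    refine Finset.sum_le_sum fun g _ => ?_
    by_cases hg : p ∣ orderOf g
    · rw [if_pos hg]
      positivity
    · rw [if_neg hg]
  have hr3 : ∀ χ : IrrCharacter G, r χ = 1 → ∀ y, p ∣ orderOf y → (χ : G → ℂ) y = 0 := by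
    intro χ hχ y hy
    have h3 : ∑ g, (w χ g - if p ∣ orderOf g then 0 else w χ g) = 0 := by
      rw [Finset.sum_sub_distrib]
      have h4 := hself χ
      have h5 : (Nat.card G : ℝ)⁻¹ * ∑ g, (if p ∣ orderOf g then 0 else w χ g) = 1 := hχ
      have hne : (Nat.card G : ℝ)⁻¹ ≠ 0 := by positivity
      have h6 := mul_left_cancel₀ hne (h4.trans h5.symm)
      rw [h6, sub_self]
    have h4 := (Finset.sum_eq_zero_iff_of_nonneg (fun g _ => ?_)).mp h3 y (mem_univ _)
    · rw [if_pos hy, sub_zero] at h4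
      have h5 : ‖(χ : G → ℂ) y‖ ^ 2 = 0 := h4
      simpa using h5
    · by_cases hg : p ∣ orderOf g
      · rw [if_pos hg, sub_zero]
        positivity
      · rw [if_neg hg, sub_self]
  have hsum := sum_classInner_pRegularPart hM hB
  have hsumR : ∑ χ : {ψ : IrrCharacter G // ψ ∈ B}, r (χ : IrrCharacter G) = (blockRank p B : ℝ) := by
    have h3 : ((∑ χ : {ψ : IrrCharacter G // ψ ∈ B}, r (χ : IrrCharacter G) : ℝ) : ℂ) = ((blockRank p B : ℝ) : ℂ) := by
      push_cast
      rw [← hsum]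
      refine sum_congr rfl fun χ _ => ?_
      rw [hr1]
    exact_mod_cast h3
  have hcard : Fintype.card {ψ : IrrCharacter G // ψ ∈ B} = 2 := by
    rw [← Nat.card_eq_fintype_card]
    exact h2
  have hle : (blockRank p B : ℝ) ≤ 2 := by
    rw [← hsumR]
    calc ∑ χ : {ψ : IrrCharacter G // ψ ∈ B}, r (χ : IrrCharacter G) ≤ ∑ χ : {ψ : IrrCharacter G // ψ ∈ B}, (1 : ℝ) :=
          Finset.sum_le_sum fun χ _ => hr2 _
      _ = 2 := by
          rw [Finset.sum_const, Finset.card_univ, hcard]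
          simp
  have hle' : blockRank p B ≤ 2 := by exact_mod_cast hle
  obtain ⟨χ₀, hχ₀⟩ := IsPBlock.nonempty hB
  have hne0 : blockRank p B ≠ 0 := by
    intro h0
    have h3 : Submodule.span ℂ ((fun χ : IrrCharacter G => pRegularPart p (χ : G → ℂ)) '' B) = ⊥ :=
      Submodule.finrank_eq_zero.mp h0
    have h4 : pRegularPart p (χ₀ : G → ℂ) ∈ Submodule.span ℂ ((fun χ : IrrCharacter G => pRegularPart p (χ : G → ℂ)) '' B) :=
      Submodule.subset_span ⟨χ₀, hχ₀, rfl⟩
    rw [h3, Submodule.mem_bot] at h4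
    exact pRegularPart_ne_zero χ₀ h4
  have hne2 : blockRank p B ≠ 2 := by
    intro h22
    have h3 : ∑ χ : {ψ : IrrCharacter G // ψ ∈ B}, (1 - r (χ : IrrCharacter G)) = 0 := by
      rw [Finset.sum_sub_distrib, hsumR, h22, Finset.sum_const, Finset.card_univ, hcard]
      simp
    have h4 := (Finset.sum_eq_zero_iff_of_nonneg (fun χ _ => sub_nonneg.mpr (hr2 _))).mp h3 ⟨χ₀, hχ₀⟩ (mem_univ _)
    have h5 : r χ₀ = 1 := by linarith
    have hvan := hr3 χ₀ h5
    have hd := pow_dvd_degree_of_vanish (p := p) χ₀ hvan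
    have h33 := charDegree_dvd_card χ₀.2
    have h6 : ¬ p ∣ Nat.card G / charDegree (χ₀ : G → ℂ) := by
      intro h7
      obtain ⟨m, hm⟩ := h33
      have hpos := charDegree_pos χ₀.2
      rw [hm, Nat.mul_div_cancel_left _ hpos] at h7
      have h8 : p ^ (Nat.card G).factorization p * p ∣ Nat.card G := by
        have h9 := Nat.mul_dvd_mul hd h7
        rwa [← hm] at h9
      rw [← pow_succ] at h8
      exact Nat.pow_succ_factorization_not_dvd Nat.card_pos.ne' hpp h8
    have h7 := (not_dvd_iff_blockOf_singleton hM χ₀).mp h6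
    have h8 : B = {χ₀} := by
      rw [blockOf_eq_of_mem hB hχ₀, h7]
    rw [h8] at h2
    simp at h2
  omega

theorem epsRes_eq_zero_of_singular (hM : IsPModular p M) {B : Set (IrrCharacter G)} (hB : IsPBlock M B) {y : G}
    (hy : p ∣ orderOf y) : epsRes M B hB y = 0 := by
  have hpp : p.Prime := hp.out
  have hone : ¬ p ∣ orderOf (1 : G) := by
    rw [orderOf_one]
    exact hpp.one_lt.ne' ∘ Nat.dvd_one.mp
  have h1 : coef (indic B) y = 0 := by
    rw [← blockCoeff_eq_coef, blockCoeff, weak_block_orthogonality hM hB hone hy, mul_zero]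
  have h2 : (⟨coef (indic B) y, coef_memLocalRing (indic_mem_zS hB) y⟩ : locRing M) = 0 := Subtype.ext h1
  simp only [epsRes]
  rw [h2, map_zero]

theorem epsRes_ne_zero_of_defectClass {B : Set (IrrCharacter G)} (hB : IsPBlock M B) {y : G}
    (hy : IsDefectClass M B y) : epsRes M B hB y ≠ 0 := by
  intro h
  have h1 := Ideal.Quotient.eq_zero_iff_mem.mp h
  rw [mem_locMax] at h1
  apply hy.2.1
  rw [blockCoeff_eq_coef]
  exact h1

/-- **A block with exactly two characters has defect group of order two.** -/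
theorem card_defect_eq_two (hM : IsPModular p M) {B : Set (IrrCharacter G)} (hB : IsPBlock M B)
    {D : Subgroup G} (hD : IsDefectGroup p M B D) (h2 : Nat.card B = 2) : Nat.card D = 2 := by
  classical
  have hpp : p.Prime := hp.out
  have hl := blockRank_eq_one_of_card_two hM hB h2
  obtain ⟨φ, d, ⟨n, hn⟩, hd, hdsum⟩ := exists_rank_one_data hM hB hl
  set X := (univ.filter (· ∈ B) : Finset (IrrCharacter G)) with hXdef
  have hBX : B = (X : Set (IrrCharacter G)) := by
    ext χ
    simp [hXdef]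
  have hmemX : ∀ χ, χ ∈ X ↔ χ ∈ B := fun χ => by simp [hXdef]
  have hXcard : X.card = 2 := by
    rw [← h2, hBX, Nat.card_coe_set_eq, Set.ncard_coe_finset]
  obtain ⟨χ₁, χ₂, hne, hX⟩ := Finset.card_eq_two.mp hXcard
  have hχ₁ : χ₁ ∈ B := (hmemX _).mp (by rw [hX]; simp)
  have hχ₂ : χ₂ ∈ B := (hmemX _).mp (by rw [hX]; simp)
  have h1reg : IsPRegular p (1 : G) := by
    show ¬ p ∣ orderOf (1 : G)
    rw [orderOf_one]
    exact hpp.one_lt.ne' ∘ Nat.dvd_one.mp
  have hdeg1 : ∀ χ : IrrCharacter G, (χ : G → ℂ) 1 = (charDegree (χ : G → ℂ) : ℂ) := fun χ => irr_one_eq χ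
  -- the integer
  have hφ1 : φ 1 = (((n χ₁ : ℤ) * (charDegree (χ₁ : G → ℂ) : ℤ) + (n χ₂ : ℤ) * (charDegree (χ₂ : G → ℂ) : ℤ) : ℤ) : ℂ) := by
    rw [hn 1 h1reg, hBX, finsum_mem_coe_finset, hX, Finset.sum_pair hne, hdeg1, hdeg1]
    push_cast
    rfl
  set f : ℤ := (n χ₁ : ℤ) * (charDegree (χ₁ : G → ℂ) : ℤ) + (n χ₂ : ℤ) * (charDegree (χ₂ : G → ℂ) : ℤ) with hf
  have hdegZ : ∀ χ ∈ B, (charDegree (χ : G → ℂ) : ℤ) = (d χ : ℤ) * f := by
    intro χ hχ
    have h3 := hd χ hχ 1 h1reg
    rw [hdeg1, hφ1] at h3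
    exact_mod_cast h3
  have hf0 : f ≠ 0 := by
    intro h0
    have h3 := hdegZ χ₁ hχ₁
    rw [h0, mul_zero] at h3
    exact (charDegree_pos χ₁.2).ne' (by exact_mod_cast h3)
  have hdpos : ∀ χ ∈ B, 0 < d χ := by
    intro χ hχ
    rcases Nat.eq_zero_or_pos (d χ) with h0 | h0
    · have h3 := hdegZ χ hχ
      rw [h0] at h3
      simp only [Nat.cast_zero, zero_mul] at h3
      exact absurd (by exact_mod_cast h3) (charDegree_pos χ.2).ne'
    · exact h0
  -- coprimality
  have hcop : Nat.Coprime (d χ₁) (d χ₂) := by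
    rw [← Nat.isCoprime_iff_coprime]
    refine ⟨n χ₁, n χ₂, ?_⟩
    apply mul_right_cancel₀ hf0
    rw [one_mul, add_mul]
    have h3 := hdegZ χ₁ hχ₁
    have h4 := hdegZ χ₂ hχ₂
    calc (n χ₁ : ℤ) * (d χ₁ : ℤ) * f + (n χ₂ : ℤ) * (d χ₂ : ℤ) * f
        = (n χ₁ : ℤ) * ((d χ₁ : ℤ) * f) + (n χ₂ : ℤ) * ((d χ₂ : ℤ) * f) := by ring
      _ = f := by rw [← h3, ← h4]
  -- the sum of squares
  have hsumd : d χ₁ ^ 2 + d χ₂ ^ 2 = p ^ blockDefect p B := by
    rw [← hdsum, hBX, finsum_mem_coe_finset, hX, Finset.sum_pair hne]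
  have hcardD : Nat.card D = p ^ blockDefect p B := card_defectGroup hM hB hD
  have hD2 : 2 ≤ Nat.card D := by
    rw [hcardD, ← hsumd]
    have h3 : 1 ≤ d χ₁ ^ 2 := Nat.one_le_pow _ _ (hdpos _ hχ₁)
    have h4 : 1 ≤ d χ₂ ^ 2 := Nat.one_le_pow _ _ (hdpos _ hχ₂)
    omega
  -- the algebra
  haveI hk : CharP (ResF M) p := (CharP.charP_iff_prime_eq_zero hpp).mpr (by
    have h1 : ((p : locRing M)) ∈ locMax M := by
      rw [mem_locMax]
      simpa using p_memLocalIdeal hM
    have h2 : (Ideal.Quotient.mk (locMax M)) (p : locRing M) = 0 := Ideal.Quotient.eq_zero_iff_mem.mpr h1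
    simpa using h2)
  have hfin := finrank_blockAlg B hB
  rw [← hXdef, hX, Finset.sum_pair hne] at hfin
  have hDg : ∃ u ∈ D, u ≠ 1 := by
    by_contra hcon
    push Not at hcon
    have h3 : D = ⊥ := (Subgroup.eq_bot_iff_forall _).mpr hcon
    rw [h3] at hD2
    simp at hD2
  obtain ⟨g, hg, P, hDeq⟩ := id hD
  obtain ⟨u, huD, hu1⟩ := hDg
  rw [hDeq] at huD
  obtain ⟨v, hvP, hvu⟩ := Subgroup.mem_map.mp huD
  obtain ⟨j, hj⟩ := (IsPGroup.iff_orderOf.mp P.isPGroup') ⟨v, hvP⟩
  have hj' : orderOf u = p ^ j := by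
    rw [← hvu, Subgroup.subtype_apply, Subgroup.orderOf_coe]
    exact (Subgroup.orderOf_mk v hvP).symm.trans hj
  have hcomm : Commute u g := by
    rw [← hvu]
    exact commute_of_mem_centralizer_singleton v.2
  obtain ⟨m, hfinal⟩ := exists_dim_eq (epsRes_class M B hB) (p := p) (epsRes_id M B hB) _ hfin (by
      have := charDegree_pos χ₁.2
      positivity)
    (fun m τ h1 h2 h3 h4 => rank_le_one_of_blockRank hM hB hl m τ h1 h2 h3 h4)
    (fun ι _ _ τ h1 h2 h3 => by
      have h4 := card_le_of_fix hB τ h1 h2 h3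
      rwa [← hXdef, hXcard] at h4)
    (fun y hy => epsRes_eq_zero_of_singular hM hB hy)
    (epsRes_ne_zero_of_defectClass hB hg) (IsDefectClass.regular hM hB hg) hcomm hj' hu1
  -- numeric
  have hdegN : ∀ χ ∈ B, charDegree (χ : G → ℂ) = d χ * f.natAbs := by
    intro χ hχ
    have h3 := hdegZ χ hχ
    have h4 := congrArg Int.natAbs h3
    simpa [Int.natAbs_mul] using h4
  rw [hdegN χ₁ hχ₁, hdegN χ₂ hχ₂] at hfinal
  have hmain : f.natAbs ^ 2 * p ^ blockDefect p B = 2 * m ^ 2 := by
    rw [← hsumd]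
    linarith
  rw [hcardD]
  exact numeric_two hpp hmain (Int.natAbs_ne_zero.mpr hf0) hsumd hcop (hdpos _ hχ₁) (hdpos _ hχ₂)

end Main

end Cfsg.Agent.Lib.LocalAlg
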