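import Cfsg.Agent.Lib.LocalAlg.Alg

/-!
# The algebra of a central idempotent of a group algebra
-/

set_option autoImplicit false
set_option linter.unusedSectionVars false
set_option linter.unusedVariables false

namespace Cfsg.Agent.Lib.LocalAlg

open Finset Module MonoidAlgebra

universe u v

variable {G : Type u} [Group G] [Fintype G] {F : Type v} [Field F]

instance instFiniteFG : Module.Finite F (MonoidAlgebra F G) :=
  Module.Finite.equiv (coeffLinearEquiv (S := F) (M := G) F).symm

/-- The group algebra element with given coefficients. -/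
noncomputable def eltOf (e : G → F) : MonoidAlgebra F G := ∑ g, single g (e g)

theorem coeff_eltOf [DecidableEq G] (e : G → F) (g : G) : (eltOf e).coeff g = e g := by
  simp [eltOf, coeff_sum, Finsupp.finset_sum_apply, Finsupp.single_apply]

theorem eq_sum_single [DecidableEq G] (a : MonoidAlgebra F G) : a = ∑ g, single g (a.coeff g) := by
  ext h
  simp [coeff_sum, Finsupp.finset_sum_apply, Finsupp.single_apply]

theorem eltOf_coeff [DecidableEq G] (a : MonoidAlgebra F G) : eltOf (fun g => a.coeff g) = a := (eq_sum_single a).symm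

variable {e : G → F} (hcl : ∀ g x, e (x * g * x⁻¹) = e g) (hid : ∀ t, ∑ w, e w * e (w⁻¹ * t) = e t)

theorem coeff_eltOf_mul [DecidableEq G] (a b : G → F) (t : G) :
    (eltOf a * eltOf b).coeff t = ∑ w, a w * b (w⁻¹ * t) := by
  have h0 : eltOf a * eltOf b = ∑ g, ∑ h, single (g * h) (a g * b h) := by
    rw [eltOf, eltOf, Finset.sum_mul]
    refine Finset.sum_congr rfl fun g _ => ?_
    rw [Finset.mul_sum]
    exact Finset.sum_congr rfl fun h _ => single_mul_single ..
  rw [h0]
  simp only [coeff_sum, Finsupp.finset_sum_apply, coeff_single, Finsupp.single_apply]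
  refine Finset.sum_congr rfl fun g _ => ?_
  rw [Finset.sum_eq_single (g⁻¹ * t)]
  · rw [if_pos (mul_inv_cancel_left g t)]
  · intro h _ hne
    rw [if_neg]
    intro h1
    apply hne
    rw [← h1, inv_mul_cancel_left]
  · simp

include hcl in
theorem eltOf_mul_single (h : G) (c : F) : eltOf e * single h c = single h c * eltOf e := by
  classical
  simp only [eltOf, Finset.sum_mul, Finset.mul_sum, single_mul_single]
  refine Fintype.sum_equiv (MulAut.conj h⁻¹).toEquiv _ _ fun g => ?_
  simp only [MulEquiv.toEquiv_eq_coe, EquivLike.coe_coe, MulAut.conj_apply]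
  rw [hcl, mul_comm (e g) c]
  congr 1
  group

include hcl in
theorem eltOf_central (a : MonoidAlgebra F G) : eltOf e * a = a * eltOf e := by
  classical
  rw [eq_sum_single a, Finset.mul_sum, Finset.sum_mul]
  exact Finset.sum_congr rfl fun g _ => eltOf_mul_single hcl _ _

include hid in
theorem eltOf_idem : eltOf e * eltOf e = eltOf e := by
  classical
  ext t
  rw [coeff_eltOf_mul, coeff_eltOf, hid]

include hcl

/-- The annihilator of the idempotent. -/
def annI : Ideal (MonoidAlgebra F G) where
  carrier := {a | eltOf e * a = 0}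
  add_mem' := fun {a b} ha hb => by
    show eltOf e * (a + b) = 0
    rw [mul_add, ha, hb, add_zero]
  zero_mem' := mul_zero _
  smul_mem' := fun c a ha => by
    show eltOf e * (c * a) = 0
    rw [← mul_assoc, eltOf_central hcl, mul_assoc, ha, mul_zero]

theorem mem_annI {a : MonoidAlgebra F G} : a ∈ annI hcl ↔ eltOf e * a = 0 := Iff.rfl

instance annI_twoSided : (annI hcl).IsTwoSided where
  mul_mem_of_left := fun b ha => by
    show eltOf e * (_ * b) = 0
    rw [← mul_assoc, ha, zero_mul]

/-- The block algebra. -/
abbrev BA (hcl : ∀ g x, e (x * g * x⁻¹) = e g) : Type _ :=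
  MonoidAlgebra F G ⧸ annI hcl

noncomputable abbrev qA : MonoidAlgebra F G →ₐ[F] BA hcl := Ideal.Quotient.mkₐ F (annI hcl)

theorem qA_surjective : Function.Surjective (qA hcl) := Ideal.Quotient.mkₐ_surjective F _

theorem qA_eq_zero_iff {a : MonoidAlgebra F G} : qA hcl a = 0 ↔ eltOf e * a = 0 := by
  rw [Ideal.Quotient.mkₐ_eq_mk, Ideal.Quotient.eq_zero_iff_mem]
  rfl

include hid in
theorem qA_elt_mul (a : MonoidAlgebra F G) : qA hcl (eltOf e * a) = qA hcl a := by
  rw [← sub_eq_zero, ← map_sub, qA_eq_zero_iff, mul_sub, ← mul_assoc, eltOf_idem hid, sub_self]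

instance : FiniteDimensional F (BA hcl) :=
  Module.Finite.of_surjective (qA hcl).toLinearMap (qA_surjective hcl)

/-- The function on the group attached to a trace functional. -/
noncomputable def ofDual (f : Module.Dual F (BA hcl)) (g : G) : F := f (qA hcl (single g 1))

theorem ofDual_class {f : Module.Dual F (BA hcl)} (hf : f ∈ traceFun F (BA hcl)) (g x : G) :
    ofDual hcl f (x * g * x⁻¹) = ofDual hcl f g := by
  simp only [ofDual]
  have h1 : (single (x * g * x⁻¹) 1 : MonoidAlgebra F G) = single x 1 * (single (g * x⁻¹) 1) := by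
    rw [single_mul_single, mul_assoc, one_mul]
  rw [h1, map_mul, hf, ← map_mul, single_mul_single, one_mul]
  congr 3
  group

include hid in
theorem sum_single_mul (f : Module.Dual F (BA hcl)) (g : G) :
    ∑ u, e u * ofDual hcl f (u * g) = ofDual hcl f g := by
  simp only [ofDual]
  have h1 : qA hcl (single g 1) = qA hcl (eltOf e * single g 1) := (qA_elt_mul hcl hid _).symm
  conv_rhs => rw [h1]
  simp only [eltOf, Finset.sum_mul, map_sum, single_mul_single]
  refine Finset.sum_congr rfl fun u _ => ?_
  have h2 : (single (u * g) (e u * 1) : MonoidAlgebra F G) = e u • single (u * g) 1 := by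
    rw [smul_single, smul_eq_mul]
  rw [h2, map_smul, map_smul, smul_eq_mul]

theorem ofDual_injective : Function.Injective (ofDual hcl (F := F) (G := G)) := by
  classical
  intro f f' hff
  apply LinearMap.ext
  intro a
  obtain ⟨b, rfl⟩ := qA_surjective hcl a
  rw [eq_sum_single b, map_sum, map_sum, map_sum]
  refine Finset.sum_congr rfl fun g _ => ?_
  have h2 : (single g (b.coeff g) : MonoidAlgebra F G) = b.coeff g • single g 1 := by
    rw [smul_single, smul_eq_mul, mul_one]
  rw [h2, map_smul, map_smul, map_smul]
  have h3 := congrFun hff g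
  simp only [ofDual] at h3
  rw [h3]

include hid in
/-- A class function fixed by the idempotent gives a trace functional. -/
theorem exists_dual_of_fun (t : G → F) (hcl' : ∀ g x, t (x * g * x⁻¹) = t g) (hfix : ∀ g, ∑ u, e u * t (u * g) = t g) :
    ∃ f ∈ traceFun F (BA hcl), ∀ g, ofDual hcl f g = t g := by
  classical
  let Φ : MonoidAlgebra F G →ₗ[F] F :=
    { toFun := fun a => ∑ g, a.coeff g * t g
      map_add' := fun a b => by
        simp [add_mul, Finset.sum_add_distrib]
      map_smul' := fun c a => by
        simp [Finset.mul_sum, mul_assoc] }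
  have hΦs : ∀ g c, Φ (single g c) = c * t g := by
    intro g c
    show ∑ h, (single g c : MonoidAlgebra F G).coeff h * t h = _
    simp [coeff_single, Finsupp.single_apply]
  have hΦe : ∀ a, Φ (eltOf e * a) = Φ a := by
    intro a
    rw [eq_sum_single a, Finset.mul_sum, map_sum, map_sum]
    refine Finset.sum_congr rfl fun g _ => ?_
    rw [hΦs]
    simp only [eltOf, Finset.sum_mul, map_sum, single_mul_single, hΦs]
    rw [← hfix g, Finset.mul_sum]
    refine Finset.sum_congr rfl fun u _ => ?_
    ring
  have hker : (annI hcl).restrictScalars F ≤ LinearMap.ker Φ := by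
    intro a ha
    have h1 : eltOf e * a = 0 := ha
    rw [LinearMap.mem_ker, ← hΦe, h1, map_zero]
  let f : Module.Dual F (BA hcl) :=
    (Submodule.liftQ ((annI hcl).restrictScalars F) Φ hker).comp
      (Submodule.Quotient.restrictScalarsEquiv F (annI hcl)).symm.toLinearMap
  have hfq : ∀ a, f (qA hcl a) = Φ a := fun a => rfl
  have hΦc : ∀ a b, Φ (a * b) = Φ (b * a) := by
    intro a b
    rw [eq_sum_single a, eq_sum_single b]
    simp only [Finset.sum_mul, Finset.mul_sum, map_sum, single_mul_single, hΦs]
    rw [Finset.sum_comm]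
    refine Finset.sum_congr rfl fun h _ => Finset.sum_congr rfl fun g _ => ?_
    have h1 : t (g * h) = t (h * g) := by
      have := hcl' (g * h) h
      rw [← this]
      congr 1
      group
    rw [h1]
    ring
  refine ⟨f, ?_, fun g => ?_⟩
  · intro a b
    obtain ⟨a, rfl⟩ := qA_surjective hcl a
    obtain ⟨b, rfl⟩ := qA_surjective hcl b
    rw [← map_mul, ← map_mul, hfq, hfq, hΦc]
  · show f (qA hcl (single g 1)) = t g
    rw [hfq, hΦs, one_mul]

/-- The dimension of the block algebra. -/
theorem finrank_BA : finrank F (BA hcl) = (Matrix.of fun g h : G => e (g * h⁻¹)).rank := by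
  classical
  set X : Matrix G G F := Matrix.of fun g h : G => e (g * h⁻¹) with hX
  let ψ : MonoidAlgebra F G →ₗ[F] (G → F) :=
    { toFun := fun a g => ∑ h, e (g * h⁻¹) * a.coeff h
      map_add' := fun a b => by
        funext g
        simp [mul_add, Finset.sum_add_distrib]
      map_smul' := fun c a => by
        funext g
        simp [Finset.mul_sum, mul_left_comm] }
  have hψ : ∀ a g, ψ a g = (eltOf e * a).coeff g := by
    intro a g
    have h1 : eltOf (fun h => a.coeff h) = a := eltOf_coeff a
    show ∑ h, e (g * h⁻¹) * a.coeff h = _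
    conv_rhs => rw [← h1]
    rw [coeff_eltOf_mul]
    refine Fintype.sum_equiv ((Equiv.inv G).trans (Equiv.mulLeft g)) _ _ fun h => ?_
    simp only [Equiv.trans_apply, Equiv.inv_apply, Equiv.coe_mulLeft]
    congr 2
    simp [mul_assoc]
  have hker : LinearMap.ker ψ = (annI hcl).restrictScalars F := by
    ext a
    rw [LinearMap.mem_ker, Submodule.restrictScalars_mem, mem_annI]
    constructor
    · intro h
      ext g
      rw [← hψ, h]
      rfl
    · intro h
      funext g
      rw [hψ, h]
      rfl
  have hrange : LinearMap.range ψ = LinearMap.range X.mulVecLin := by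
    ext w
    constructor
    · rintro ⟨a, rfl⟩
      refine ⟨fun h => a.coeff h, ?_⟩
      funext g
      rfl
    · rintro ⟨v, rfl⟩
      refine ⟨eltOf v, ?_⟩
      funext g
      show ∑ h, e (g * h⁻¹) * (eltOf v).coeff h = ∑ h, X g h * v h
      simp only [coeff_eltOf]
      rfl
  have h1 := Submodule.finrank_quotient_add_finrank ((annI hcl).restrictScalars F)
  have h2 := LinearMap.finrank_range_add_finrank_ker ψ
  have h3 : finrank F (BA hcl) = finrank F (MonoidAlgebra F G ⧸ (annI hcl).restrictScalars F) :=
    (Submodule.Quotient.restrictScalarsEquiv F (annI hcl)).symm.finrank_eq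
  rw [Matrix.rank, ← hrange, h3]
  rw [hker] at h2
  omega

end Cfsg.Agent.Lib.LocalAlg
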