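import Cfsg.Agent.Lib.LocalAlg.ONormal3
import Cfsg.Agent.S4889
import Cfsg.Agent.Lib.Char.Ito
import Cfsg.Agent.Lib.Fusion2.StrongRes

/-!
# Blocks with a normal defect group: from equal degrees to the stabilizer criterion
-/

set_option autoImplicit false
set_option linter.unusedSectionVars false
set_option linter.unusedVariables false

namespace Cfsg.Agent.Lib.LocalAlg

open Cfsg Cfsg.Agent.Lib.Char Cfsg.Agent.Lib.Blocks Cfsg.Agent.Lib.H8Group Finset
open scoped ComplexConjugate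

universe u

section PartB

variable {G : Type u} [Group G] [Fintype G] {M : Ideal AlgInt} {p : ℕ} [hp : Fact p.Prime] {D : Subgroup G}

attribute [local instance] oFt

theorem mem_cen_of_commutator (hDp : IsPGroup p D) (hDn : D.Normal) {x : G} (hx : ¬ p ∣ orderOf x)
    (h : ∀ d ∈ D, x * d * x⁻¹ * d⁻¹ ∈ ⁅D, D⁆) : x ∈ Subgroup.centralizer (D : Set G) := by
  haveI := hDn
  haveI : Group.IsNilpotent D := hDp.isNilpotent
  let α : MulAut D := MulAut.conjNormal x
  have hα : (orderOf α).Coprime p := by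
    have h1 : orderOf α ∣ orderOf x := orderOf_map_dvd MulAut.conjNormal x
    exact Nat.Coprime.coprime_dvd_left h1 ((Nat.Prime.coprime_iff_not_dvd hp.out).mpr hx).symm
  have hfr : ∀ y : D, α y * y⁻¹ ∈ frattini D := by
    intro y
    apply Cfsg.Agent.Lib.Basic.commutator_le_frattini_of_isNilpotent
    have h1 := h y y.2
    rw [← Subgroup.map_subtype_commutator] at h1
    obtain ⟨w, hw, hw'⟩ := h1
    have h2 : w = α y * y⁻¹ := by
      apply Subtype.ext
      rw [Subgroup.coe_mul, Subgroup.coe_inv]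
      simpa [α, MulAut.conjNormal_apply] using hw'
    rwa [← h2]
  have h1 := Cfsg.Agent.Lib.Fusion2.aut_eq_one_of_frattini hDp hα hfr
  rw [Subgroup.mem_centralizer_iff]
  intro d hd
  have h2 := congrArg (fun β : MulAut D => ((β ⟨d, hd⟩ : D) : G)) h1
  simp only [α, MulAut.conjNormal_apply, MulAut.one_apply] at h2
  -- `x d x⁻¹ = d`
  calc d * x = (x * d * x⁻¹) * x := by rw [h2]
    _ = x * d := by group

/-- **From equal degrees to the stabilizer criterion.** -/
theorem regular_cen_of_equal_degrees (hM : IsPModular p M) {B : Set (IrrCharacter G)} (hB : IsPBlock M B)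
    (hD : IsDefectGroup p M B D) (hDn : D.Normal) {d : ℕ}
    (hd : ∀ χ : IrrCharacter G, χ ∈ B → blockHeight p B (χ : G → ℂ) = 0 → charDegree (χ : G → ℂ) = d) :
    ∃ e : Set (IrrCharacter (Subgroup.centralizer (D : Set G))), IsMaximalBrauerPair p M B D e ∧
      ∀ x : G, IsPRegular p x → StabilizesBlock (Subgroup.centralizer (D : Set G)) e x →
        x ∈ Subgroup.centralizer (D : Set G) := by
  classical
  have := isPrime_of_modular hM
  have hpp : p.Prime := hp.out
  haveI := hDn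
  have hDp : IsPGroup p D := IsDefectGroup.isPGroup hD
  let N₀ : Subgroup G := ⁅D, D⁆
  haveI hN₀n : N₀.Normal := Subgroup.commutator_normal D D
  have hN₀D : N₀ ≤ D := Subgroup.commutator_le_left D D
  have hN₀p : IsPGroup p N₀ := hDp.to_le hN₀D
  letI : Fintype (G ⧸ N₀) := Fintype.ofFinite _
  obtain ⟨Bbar, hBbar, hsub, hdef⟩ := exists_quotient_block N₀ hM hN₀p hB
  let q := QuotientGroup.mk' N₀
  have hqs : Function.Surjective q := QuotientGroup.mk'_surjective N₀
  let Dbar : Subgroup (G ⧸ N₀) := D.map q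
  have hDbar : IsDefectGroup p M Bbar Dbar := (hdef _).mpr ⟨D, hD, rfl⟩
  haveI hDbn : Dbar.Normal := hDn.map q hqs
  have habD : ∀ x ∈ Dbar, ∀ y ∈ Dbar, x * y = y * x := by
    rintro _ ⟨a, ha, rfl⟩ _ ⟨b, hb, rfl⟩
    rw [← map_mul, ← map_mul]
    apply QuotientGroup.eq.mpr
    have h1 := Subgroup.commutator_mem_commutator (D.inv_mem hb) (D.inv_mem ha)
    have h2 : (a * b)⁻¹ * (b * a) = b⁻¹ * a⁻¹ * b⁻¹⁻¹ * a⁻¹⁻¹ := by
      group
    rw [h2]
    exact h1
  have hidx : Dbar.index = D.index :=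
    D.index_map_eq hqs (by rw [QuotientGroup.ker_mk']; exact hN₀D)
  have hval1 : D.index.factorization p = minVal p B := by
    have h1 := card_val_eq_minVal_add_defect (p := p) (IsPBlock.nonempty hB)
    have h2 := card_defectGroup hM hB hD
    have h3 := Subgroup.index_mul_card D
    have h4 : (Nat.card G).factorization p = D.index.factorization p + blockDefect p B := by
      rw [← h3, Nat.factorization_mul Subgroup.index_ne_zero_of_finite Nat.card_pos.ne', h2, hpp.factorization_pow]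
      simp
    omega
  have hval2 : Dbar.index.factorization p = minVal p Bbar := by
    have h1 := card_val_eq_minVal_add_defect (p := p) (IsPBlock.nonempty hBbar)
    have h2 := card_defectGroup hM hBbar hDbar
    have h3 := Subgroup.index_mul_card Dbar
    have h4 : (Nat.card (G ⧸ N₀)).factorization p = Dbar.index.factorization p + blockDefect p Bbar := by
      rw [← h3, Nat.factorization_mul Subgroup.index_ne_zero_of_finite Nat.card_pos.ne', h2, hpp.factorization_pow]
      simp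
    omega
  have hvle : ∀ χ : IrrCharacter (G ⧸ N₀), (charDegree (χ : G ⧸ N₀ → ℂ)).factorization p ≤ Dbar.index.factorization p := by
    intro χ
    have h1 := charDegree_dvd_index_of_abelian_normal χ.2 Dbar habD
    exact (Nat.factorization_le_iff_dvd (charDegree_pos χ.2).ne' Subgroup.index_ne_zero_of_finite).mpr h1 p
  have h0bar : ∀ χ : IrrCharacter (G ⧸ N₀), χ ∈ Bbar → blockHeight p Bbar (χ : G ⧸ N₀ → ℂ) = 0 := by
    intro χ hχ
    have h1 := val_eq_minVal_add_height (p := p) hχ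
    have h2 := hvle χ
    omega
  have hdegbar : ∀ χ : IrrCharacter (G ⧸ N₀), χ ∈ Bbar → charDegree (χ : G ⧸ N₀ → ℂ) = d := by
    intro χ hχ
    have hχ' : inflIrr N₀ χ ∈ B := hsub hχ
    have hdeg : charDegree ((inflIrr N₀ χ : IrrCharacter G) : G → ℂ) = charDegree (χ : G ⧸ N₀ → ℂ) := rfl
    have h1 := val_eq_minVal_add_height (p := p) hχ'
    rw [hdeg] at h1
    have h2 := hvle χ
    rw [hidx, hval1] at h2
    have h3 := hd _ hχ' (by omega)
    rw [hdeg] at h3
    exact h3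
  have hnil : IsNilpotentBlock p M Bbar :=
    (Cfsg.Agent.S4889.result p M hM Bbar hBbar Dbar hDbar
      ⟨⟨fun a b => Subtype.ext (habD a a.2 b b.2)⟩⟩ h0bar).mp ⟨d, hdegbar⟩
  -- the maximal pairs
  obtain ⟨Pb, eb₀, hmaxb₀⟩ := exists_isMaximalBrauerPair (p := p) hM hBbar
  have hPb : Dbar = Pb := by
    obtain ⟨y, hy⟩ := IsDefectGroup.exists_conj_eq hM hBbar hDbar (isDefectGroup_of_isMaximalBrauerPair hM hmaxb₀)
    exact (hy.trans (conjS_of_normal hDbn y)).symm
  subst hPb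
  obtain ⟨P, e₀, hmax₀⟩ := exists_isMaximalBrauerPair (p := p) hM hB
  have hPD : D = P := by
    obtain ⟨y, hy⟩ := IsDefectGroup.exists_conj_eq hM hB hD (isDefectGroup_of_isMaximalBrauerPair hM hmax₀)
    exact (hy.trans (conjS_of_normal hDn y)).symm
  subst hPD
  let C : Subgroup G := Subgroup.centralizer (D : Set G)
  let C₁ : Subgroup (G ⧸ N₀) := Subgroup.centralizer (Dbar : Set (G ⧸ N₀))
  haveI hCn : C.Normal := Subgroup.normal_centralizer
  haveI hC₁n : C₁.Normal := Subgroup.normal_centralizer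
  have hπmem : ∀ c : C, q (c : G) ∈ C₁ := by
    intro c
    show q (c : G) ∈ Subgroup.centralizer (Dbar : Set (G ⧸ N₀))
    rw [Subgroup.mem_centralizer_iff]
    rintro _ ⟨b, hb, rfl⟩
    have h1 := Subgroup.mem_centralizer_iff.mp c.2 b hb
    rw [← map_mul, ← map_mul, h1]
  let π : C →* C₁ := (q.comp C.subtype).codRestrict C₁ hπmem
  have hπ : ∀ c : C, ((π c : C₁) : G ⧸ N₀) = q (c : G) := fun c => rfl
  have hkerD : ∀ c : C, π c = 1 → (c : G) ∈ D := by
    intro c hc
    have h1 : q (c : G) = 1 := by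
      rw [← hπ, hc]
      rfl
    exact hN₀D ((QuotientGroup.eq_one_iff _).mp h1)
  have hkerp : IsPGroup p π.ker := by
    intro g
    obtain ⟨k, hk⟩ := hDp ⟨((g : C) : G), hkerD _ g.2⟩
    refine ⟨k, Subtype.ext (Subtype.ext ?_)⟩
    have h1 := congrArg Subtype.val hk
    simpa using h1
  have hkerc : ∀ c, π c = 1 → ∀ d', Commute d' c := by
    intro c hc d'
    apply Subtype.ext
    have h1 := Subgroup.mem_centralizer_iff.mp d'.2 (c : G) (hkerD c hc)
    exact h1.symm
  have hreg : ∀ u : C₁, ¬ p ∣ orderOf u → u ∈ π.range := by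
    intro u hu
    obtain ⟨g, hg⟩ := hqs (u : G ⧸ N₀)
    have hu' : ¬ p ∣ orderOf (u : G ⧸ N₀) := by rwa [Subgroup.orderOf_coe]
    obtain ⟨g', hg', hr⟩ := exists_regular_lift q hu' hg
    have hgC : g' ∈ C := by
      refine mem_cen_of_commutator hDp hDn hr fun b hb => ?_
      have h1 : q (g' * b * g'⁻¹ * b⁻¹) = 1 := by
        have h2 := Subgroup.mem_centralizer_iff.mp u.2 (q b) ⟨b, hb, rfl⟩
        rw [map_mul, map_mul, map_mul, map_inv, map_inv, hg', ← h2]
        group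
      exact (QuotientGroup.eq_one_iff _).mp h1
    exact ⟨⟨g', hgC⟩, Subtype.ext hg'⟩
  haveI hWn : π.range.Normal := by
    refine ⟨?_⟩
    rintro _ ⟨c, rfl⟩ u
    obtain ⟨g, hg⟩ := hqs (u : G ⧸ N₀)
    refine ⟨⟨g * c * g⁻¹, hCn.conj_mem _ c.2 g⟩, Subtype.ext ?_⟩
    show q (g * c * g⁻¹) = (u : G ⧸ N₀) * q (c : G) * (u : G ⧸ N₀)⁻¹
    rw [map_mul, map_mul, map_inv, hg]
  -- the constituents
  obtain ⟨χb, hχb⟩ := IsPBlock.nonempty hBbar
  let ρ : C₁ → ℂ := fun u => (χb : G ⧸ N₀ → ℂ) u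
  have hρcl : IsClassFunction C₁ ρ := fun u v => irr_isClassFunction χb (u : G ⧸ N₀) (v : G ⧸ N₀)
  let ρW : π.range → ℂ := fun w => ρ w
  have hρWcl : IsClassFunction π.range ρW := fun u v => hρcl (u : C₁) (v : C₁)
  have hexη : ∃ η : IrrCharacter π.range, classInner ρW (η : π.range → ℂ) ≠ 0 := by
    by_contra hcon
    push Not at hcon
    have h1 := classFunction_eq_sum ρW hρWcl
    have h2 := congrFun h1 1
    simp only [hcon, zero_smul, Finset.sum_const_zero, Pi.zero_apply] at h2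
    exact irr_apply_one_ne_zero χb h2
  obtain ⟨η, hη'⟩ := hexη
  have hη := hη'
  have hexp : classInner ρW (η : π.range → ℂ) = ∑ ζ : IrrCharacter C₁, classInner ρ (ζ : C₁ → ℂ) *
      classInner (fun w : π.range => (ζ : C₁ → ℂ) w) (η : π.range → ℂ) := by
    have h1 : ρW = ∑ ζ : IrrCharacter C₁, classInner ρ (ζ : C₁ → ℂ) • (fun w : π.range => (ζ : C₁ → ℂ) w) := by
      funext w
      have h2 := congrFun (classFunction_eq_sum ρ hρcl) (w : C₁)
      simp only [Finset.sum_apply, Pi.smul_apply, smul_eq_mul] at h2 ⊢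
      exact h2
    rw [h1, classInner_sum_left]
    exact Finset.sum_congr rfl fun ζ _ => classInner_smul_left _ _ _
  rw [hexp] at hη
  obtain ⟨ζ, -, hζ⟩ := Finset.exists_ne_zero_of_sum_ne_zero hη
  have hζ₁ := left_ne_zero_of_mul hζ
  have hζ₂ := right_ne_zero_of_mul hζ
  obtain ⟨eb, hmaxb, hζeb⟩ := exists_maxPair_mem hM hDbn hmaxb₀ hχb hζ₁
  let πh := π.rangeRestrict
  have hπh : Function.Surjective πh := MonoidHom.rangeRestrict_surjective π
  let θ₁ : IrrCharacter C := ⟨(η : π.range → ℂ) ∘ πh, isIrrCharacter_comp_surj πh hπh η.2⟩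
  have hχ₀ : inflIrr N₀ χb ∈ B := hsub hχb
  have hcon : classInner (fun n : C => (inflIrr N₀ χb : G → ℂ) n) (θ₁ : C → ℂ) ≠ 0 := by
    have h1 : (fun n : C => (inflIrr N₀ χb : G → ℂ) n) = ρW ∘ πh := rfl
    have h2 : (θ₁ : C → ℂ) = (η : π.range → ℂ) ∘ πh := rfl
    rw [h1, h2, classInner_comp_surj πh hπh]
    exact hη'
  obtain ⟨e, hmax, hθe⟩ := exists_maxPair_mem hM hDn hmax₀ hχ₀ hcon
  refine ⟨e, hmax, fun x hx hs => ?_⟩
  have hSx : conjIrr C x θ₁ ∈ e := conjIrr_mem_of_stabilizes _ hs hθe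
  have hmemW : ∀ (z : G) (w : π.range),
      (⟨q z * ((w : C₁) : G ⧸ N₀) * (q z)⁻¹, hC₁n.conj_mem _ w.1.2 _⟩ : C₁) ∈ π.range := by
    rintro z ⟨_, c, rfl⟩
    refine ⟨⟨z * c * z⁻¹, hCn.conj_mem _ c.2 z⟩, Subtype.ext ?_⟩
    show q (z * c * z⁻¹) = q z * q (c : G) * (q z)⁻¹
    rw [map_mul, map_mul, map_inv]
  let fW : G → π.range → π.range := fun z w =>
    ⟨⟨q z * ((w : C₁) : G ⧸ N₀) * (q z)⁻¹, hC₁n.conj_mem _ w.1.2 _⟩, hmemW z w⟩
  have hfW : ∀ z w, (((fW z w : π.range) : C₁) : G ⧸ N₀) = q z * ((w : C₁) : G ⧸ N₀) * (q z)⁻¹ := fun z w => rfl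
  let β : π.range ≃* π.range :=
    { toFun := fW x
      invFun := fW x⁻¹
      left_inv := fun w => Subtype.ext (Subtype.ext (by
        rw [hfW, hfW, map_inv]
        group))
      right_inv := fun w => Subtype.ext (Subtype.ext (by
        rw [hfW, hfW, map_inv]
        group))
      map_mul' := fun a b => Subtype.ext (Subtype.ext (by
        rw [hfW]
        show q x * ((((a : C₁) : G ⧸ N₀)) * ((b : C₁) : G ⧸ N₀)) * (q x)⁻¹ =
          (q x * ((a : C₁) : G ⧸ N₀) * (q x)⁻¹) * (q x * ((b : C₁) : G ⧸ N₀) * (q x)⁻¹)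
        group)) }
  let α : C ≃* C := MulAut.conjNormal x
  have hαc : ∀ c : C, ((α c : C) : G) = x * c * x⁻¹ := fun c => MulAut.conjNormal_apply x c
  have hαs : ∀ c : C, ((α.symm c : C) : G) = x⁻¹ * c * x := fun c => MulAut.conjNormal_symm_apply x c
  have hαβ : ∀ c, πh (α c) = β (πh c) := by
    intro c
    apply Subtype.ext
    apply Subtype.ext
    show q ((α c : C) : G) = q x * q (c : G) * (q x)⁻¹
    rw [hαc, map_mul, map_mul, map_inv]
  have hK : conjIrr C₁ (q x) ζ ∈ eb := by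
    refine mem_block_of_comparison hM π hkerp hkerc hreg β α hαβ hmaxb.1.1.2 hζeb hζ₂ (θ := θ₁)
      (fun c => rfl) hmax.1.1.2 hθe (θ₂ := conjIrr C x θ₁) ?_ hSx ?_
    · intro c
      simp only [conjIrr_coe, Cfsg.Agent.Lib.Char.conjFun_apply]
      exact congrArg (θ₁ : C → ℂ) (Subtype.ext (hαs c).symm)
    · intro u
      simp only [conjIrr_coe, Cfsg.Agent.Lib.Char.conjFun_apply]
      refine congrArg (ζ : C₁ → ℂ) (Subtype.ext ?_)
      show (q x)⁻¹ * ((u : C₁) : G ⧸ N₀) * q x = q x⁻¹ * ((u : C₁) : G ⧸ N₀) * (q x⁻¹)⁻¹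
      rw [map_inv, inv_inv]
  have hsb : StabilizesBlock C₁ eb (q x) := stabilizes_of_conjIrr_mem hmaxb.1.1.2 hζeb hK
  have hc : q x ∈ C₁ :=
    (isNilpotentBlock_iff_of_abelian hM hmaxb habD).mp hnil (q x) (mem_normalizer_of_normal hDbn _) hsb
  refine mem_cen_of_commutator hDp hDn hx fun b hb => ?_
  have h1 : q (x * b * x⁻¹ * b⁻¹) = 1 := by
    have h2 := Subgroup.mem_centralizer_iff.mp hc (q b) ⟨b, hb, rfl⟩
    rw [map_mul, map_mul, map_mul, map_inv, map_inv, ← h2]
    group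
  exact (QuotientGroup.eq_one_iff _).mp h1

end PartB

end Cfsg.Agent.Lib.LocalAlg
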