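import Cfsg.Agent.Lib.LocalAlg.GAlg

/-!
# A block algebra with one simple module
-/

set_option autoImplicit false
set_option linter.unusedSectionVars false
set_option linter.unusedVariables false

namespace Cfsg.Agent.Lib.LocalAlg

open Finset Module MonoidAlgebra

universe u v

variable {G : Type u} [Group G] [Fintype G] {F : Type v} [Field F]

/-- Traces of matrix representations are trace functionals. -/
noncomputable def trDual {A : Type*} [Ring A] [Algebra F A] {n : ℕ} (π : A →ₐ[F] Matrix (Fin n) (Fin n) F) :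
    Module.Dual F A := (Matrix.traceLinearMap (Fin n) F F).comp π.toLinearMap

theorem trDual_apply {A : Type*} [Ring A] [Algebra F A] {n : ℕ} (π : A →ₐ[F] Matrix (Fin n) (Fin n) F) (a : A) :
    trDual π a = (π a).trace := rfl

theorem trDual_mem {A : Type*} [Ring A] [Algebra F A] {n : ℕ} (π : A →ₐ[F] Matrix (Fin n) (Fin n) F) :
    trDual π ∈ traceFun F A := by
  intro a b
  simp only [trDual_apply, map_mul]
  exact Matrix.trace_mul_comm _ _

variable {e : G → F} (hcl : ∀ g x, e (x * g * x⁻¹) = e g) (hid : ∀ t, ∑ w, e w * e (w⁻¹ * t) = e t)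

/-- Traces are constant on sections. -/
theorem tr_section {p : ℕ} [Fact p.Prime] [CharP F p] {n : ℕ} [NeZero n] (π : BA hcl →ₐ[F] Matrix (Fin n) (Fin n) F)
    {a b : G} (hab : Commute a b) {j : ℕ} (ha : orderOf a = p ^ j) :
    ofDual hcl (trDual π) (a * b) = ofDual hcl (trDual π) b := by
  classical
  simp only [ofDual, trDual_apply]
  set X := π (qA hcl (single a 1)) with hX
  set Y := π (qA hcl (single b 1)) with hY
  have hmul : ∀ c d : G, π (qA hcl (single (c * d) 1)) = π (qA hcl (single c 1)) * π (qA hcl (single d 1)) := by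
    intro c d
    rw [← map_mul, ← map_mul, single_mul_single, one_mul]
  have hone : π (qA hcl (single 1 1)) = 1 := by
    have h1 : (single 1 1 : MonoidAlgebra F G) = 1 := rfl
    rw [h1, map_one, map_one]
  have hpow : ∀ k : ℕ, X ^ k = π (qA hcl (single (a ^ k) 1)) := by
    intro k
    induction k with
    | zero => rw [pow_zero, pow_zero, hone]
    | succ k ih => rw [pow_succ, ih, pow_succ, hmul]
  have hcomm : Commute X Y := by
    show X * Y = Y * X
    rw [hX, hY, ← hmul, ← hmul, hab.eq]
  haveI : Nonempty (Fin n) := ⟨0⟩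
  haveI : CharP (Matrix (Fin n) (Fin n) F) p := Matrix.charP p
  have hnil : IsNilpotent (X - 1) := by
    refine ⟨p ^ j, ?_⟩
    rw [sub_pow_char_pow_of_commute p j (Commute.one_right X), one_pow, hpow, ← ha, pow_orderOf_eq_one, hone, sub_self]
  have hcomm' : Commute (X - 1) Y := hcomm.sub_left (Commute.one_left Y)
  have hnil2 : IsNilpotent ((X - 1) * Y) := hcomm'.isNilpotent_mul_right hnil
  have h0 : ((X - 1) * Y).trace = 0 := (Matrix.isNilpotent_trace_of_isNilpotent hnil2).eq_zero
  rw [sub_mul, one_mul, Matrix.trace_sub, sub_eq_zero] at h0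
  rw [hmul]
  exact h0

/-- Existence of the matrix quotient. -/
theorem exists_matrix_quotient [IsAlgClosed F] {p : ℕ} [Fact p.Prime] [CharP F p] [Nontrivial (BA hcl)]
    (hid : ∀ t, ∑ w, e w * e (w⁻¹ * t) = e t)
    (hrank : ∀ (m : ℕ) (τ : Fin m → G → F), LinearIndependent F τ → (∀ i g x, τ i (x * g * x⁻¹) = τ i g) →
      (∀ i a b j, Commute a b → orderOf a = p ^ j → τ i (a * b) = τ i b) →
      (∀ i g, ∑ u, e u * τ i (u * g) = τ i g) → m ≤ 1) :
    ∃ (n : ℕ) (_ : NeZero n) (π : BA hcl →ₐ[F] Matrix (Fin n) (Fin n) F), Function.Surjective π ∧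
      ∃ N, (LinearMap.ker π.toLinearMap) ^ N = ⊥ := by
  classical
  set A := BA hcl with hA
  haveI : IsArtinianRing A := IsArtinianRing.of_finite F A
  let jac := Ring.jacobson A
  obtain ⟨m, d, hd, ⟨e₀⟩⟩ := IsSemisimpleRing.exists_algEquiv_pi_matrix_of_isAlgClosed F (A ⧸ jac)
  let P : A →ₐ[F] A ⧸ jac := Ideal.Quotient.mkₐ F jac
  have hP : Function.Surjective P := Ideal.Quotient.mkₐ_surjective F jac
  let πs : ∀ i, A →ₐ[F] Matrix (Fin (d i)) (Fin (d i)) F := fun i =>
    (Pi.evalAlgHom F (fun i => Matrix (Fin (d i)) (Fin (d i)) F) i).comp (e₀.toAlgHom.comp P)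
  have hπs : ∀ i a, πs i a = e₀ (P a) i := fun i a => rfl
  -- the elements separating the factors
  have hsep : ∀ w : (∀ i, Matrix (Fin (d i)) (Fin (d i)) F), ∃ a : A, ∀ i, πs i a = w i := by
    intro w
    obtain ⟨a, ha⟩ := hP (e₀.symm w)
    refine ⟨a, fun i => ?_⟩
    rw [hπs, ha, AlgEquiv.apply_symm_apply]
  have hsurj : ∀ i, Function.Surjective (πs i) := by
    intro i M
    obtain ⟨a, ha⟩ := hsep (Function.update 0 i M)
    exact ⟨a, by rw [ha, Function.update_self]⟩
  -- the traces
  let τ : Fin m → G → F := fun i => ofDual hcl (trDual (πs i))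
  have hτind : LinearIndependent F τ := by
    rw [Fintype.linearIndependent_iff]
    intro α hα i
    haveI := hd i
    obtain ⟨a, ha⟩ := hsep (Function.update 0 i (Matrix.single 0 0 1))
    obtain ⟨b, rfl⟩ := qA_surjective hcl a
    have h1 : ∀ j, (πs j (qA hcl b)).trace = ∑ g, b.coeff g * τ j g := by
      intro j
      conv_lhs => rw [eq_sum_single b]
      rw [map_sum, map_sum, Matrix.trace_sum]
      refine Finset.sum_congr rfl fun g _ => ?_
      have h2 : (single g (b.coeff g) : MonoidAlgebra F G) = b.coeff g • single g 1 := by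
        rw [smul_single, smul_eq_mul, mul_one]
      rw [h2, map_smul, map_smul, Matrix.trace_smul, smul_eq_mul]
      rfl
    have h2 : ∑ j, α j * (πs j (qA hcl b)).trace = 0 := by
      simp only [h1, Finset.mul_sum]
      rw [Finset.sum_comm]
      refine Finset.sum_eq_zero fun g _ => ?_
      have h3 := congrFun hα g
      simp only [Finset.sum_apply, Pi.smul_apply, smul_eq_mul, Pi.zero_apply] at h3
      calc ∑ j, α j * (b.coeff g * τ j g) = b.coeff g * ∑ j, α j * τ j g := by
            rw [Finset.mul_sum]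
            exact Finset.sum_congr rfl fun j _ => by ring
        _ = 0 := by rw [h3, mul_zero]
    rw [Finset.sum_eq_single i] at h2
    · rw [ha, Function.update_self] at h2
      simpa [Matrix.trace_single_eq_same] using h2
    · intro j _ hji
      rw [ha, Function.update_of_ne hji]
      simp
    · simp
  have hm := hrank m τ hτind (fun i g x => ofDual_class hcl (trDual_mem _) g x)
    (fun i a b j hab ha => by
      haveI := hd i
      exact tr_section hcl (πs i) hab ha)
    (fun i g => sum_single_mul hcl hid _ g)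
  obtain ⟨N, hN⟩ : IsNilpotent jac := IsSemiprimaryRing.isNilpotent
  -- `m = 1`
  have hm0 : m ≠ 0 := by
    rintro rfl
    have h1 : (1 : A ⧸ jac) = 0 := by
      apply e₀.injective
      funext i
      exact i.elim0
    have h2 : (1 : A) ∈ jac := Ideal.Quotient.eq_zero_iff_mem.mp (by rw [map_one]; exact h1)
    have h3 := Ideal.pow_mem_pow h2 N
    rw [hN] at h3
    rw [one_pow, Ideal.zero_eq_bot] at h3
    have h4 : (1 : A) = 0 := (Submodule.mem_bot _).mp h3
    exact one_ne_zero h4
  have hm1 : m = 1 := by omega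
  subst hm1
  let i₀ : Fin 1 := ⟨0, Nat.one_pos⟩
  haveI := hd i₀
  refine ⟨d i₀, hd i₀, πs i₀, hsurj i₀, N, ?_⟩
  -- the kernel
  have hker : ∀ a, πs i₀ a = 0 → a ∈ jac := by
    intro a ha
    have h1 : P a = 0 := by
      apply e₀.injective
      funext i
      have hi : i = i₀ := Subsingleton.elim _ _
      subst hi
      rw [map_zero]
      exact ha
    exact Ideal.Quotient.eq_zero_iff_mem.mp h1
  have hpow : ∀ k, ∀ a ∈ (LinearMap.ker (πs i₀).toLinearMap) ^ k, a ∈ jac ^ k := by
    intro k
    induction k with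
    | zero =>
      intro a _
      rw [Submodule.pow_zero, Ideal.one_eq_top]
      exact Submodule.mem_top
    | succ k ih =>
      intro a ha
      rw [pow_succ] at ha
      rw [Submodule.pow_succ]
      induction ha using Submodule.mul_induction_on' with
      | mem_mul_mem u hu v hv =>
        exact Ideal.mul_mem_mul (ih u hu) (hker v (by simpa using hv))
      | add x _ y _ hx hy => exact Submodule.add_mem _ hx hy
  rw [eq_bot_iff]
  intro a ha
  have h1 := hpow N a ha
  rw [hN] at h1
  exact (Submodule.mem_bot F).mpr (by simpa using h1)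

end Cfsg.Agent.Lib.LocalAlg
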